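import Mathlib

/-!
# Roots of the cyclotomic polynomial in an arbitrary commutative ring (helper11)

If `ζ` is a root of `Φ_n` in a commutative ring `R`, then `X^n - 1 = ∏_{k<n} (X - ζ^k)` and
`∏_{0<k<n} (1 - ζ^k) = n`.  Proof: transfer from the domain `ℤ[X]/Φ_n`.
-/

set_option autoImplicit false
set_option linter.style.haveILetI false

namespace Groth.Agent.Lib.Helper11.CycloUnits

open Polynomial

theorem domain_case {B : Type*} [CommRing B] [IsDomain B] (n : ℕ) (hn : 1 ≤ n) (η : B)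
    (hη : IsPrimitiveRoot η n) :
    (X ^ n - 1 : B[X]) = ∏ k ∈ Finset.range n, (X - C (η ^ k)) ∧
    ∏ k ∈ Finset.Ico 1 n, (1 - η ^ k) = (n : B) := by
  classical
  have h1 : (X ^ n - 1 : B[X]) = ∏ k ∈ Finset.range n, (X - C (η ^ k)) := by
    have hmonic : (X ^ n - C (1 : B)).Monic := monic_X_pow_sub_C (1 : B) (by omega)
    have hroots : (X ^ n - C (1 : B)).roots = (Multiset.range n).map (fun k => η ^ k) := by
      have := hη.nthRoots_eq (α := 1) (a := 1) (one_pow n)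
      simpa [nthRoots] using this
    have hcard : Multiset.card (X ^ n - C (1 : B)).roots = (X ^ n - C (1 : B)).natDegree := by
      rw [hroots, Multiset.card_map, Multiset.card_range, natDegree_X_pow_sub_C]
    have := prod_multiset_X_sub_C_of_monic_of_roots_card_eq hmonic hcard
    rw [hroots, Multiset.map_map] at this
    rw [C_1] at this
    rw [← this]
    rfl
  refine ⟨h1, ?_⟩
  have h2 : (∏ k ∈ Finset.Ico 1 n, (X - C (η ^ k)) : B[X]) = ∑ i ∈ Finset.range n, X ^ i := by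
    have hne : (X - 1 : B[X]) ≠ 0 := by
      have := X_sub_C_ne_zero (1 : B)
      rwa [C_1] at this
    apply mul_left_cancel₀ hne
    have h3 : (X - 1 : B[X]) * ∑ i ∈ Finset.range n, X ^ i = X ^ n - 1 := by
      rw [mul_comm]; exact geom_sum_mul X n
    rw [h3, h1, Finset.range_eq_Ico, Finset.prod_eq_prod_Ico_succ_bot (by omega : 0 < n)]
    simp
  have := congrArg (eval 1) h2
  simp only [eval_prod, eval_sub, eval_X, eval_C, eval_finsetSum, eval_pow, one_pow,
    Finset.sum_const, Finset.card_range, nsmul_eq_mul, mul_one] at this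
  exact this

theorem key_alg {R : Type*} [CommRing R] (n : ℕ) (hn : 1 ≤ n) (ζ : R)
    (hζ : aeval ζ (cyclotomic n ℤ) = 0) :
    (X ^ n - 1 : R[X]) = ∏ k ∈ Finset.range n, (X - C (ζ ^ k)) ∧
    ∏ k ∈ Finset.Ico 1 n, (1 - ζ ^ k) = (n : R) := by
  have hprime : Prime (cyclotomic n ℤ) := (cyclotomic.irreducible (by omega)).prime
  haveI : IsDomain (AdjoinRoot (cyclotomic n ℤ)) := AdjoinRoot.isDomain_of_prime hprime
  have hdeg : (cyclotomic n ℤ).degree ≠ 0 := (degree_cyclotomic_pos n ℤ (by omega)).ne'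
  have hinj : Function.Injective (AdjoinRoot.of (cyclotomic n ℤ)) :=
    AdjoinRoot.of.injective_of_degree_ne_zero hdeg
  haveI : CharZero (AdjoinRoot (cyclotomic n ℤ)) := by
    refine ⟨fun a b h => ?_⟩
    have h' : AdjoinRoot.of (cyclotomic n ℤ) (a : ℤ) = AdjoinRoot.of (cyclotomic n ℤ) (b : ℤ) := by
      simpa using h
    exact_mod_cast hinj h'
  set η : AdjoinRoot (cyclotomic n ℤ) := AdjoinRoot.root _ with hηdef
  have hη : IsPrimitiveRoot η n := by
    rw [← isRoot_cyclotomic_iff_charZero (by omega : 0 < n)]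
    have h0 : aeval η (cyclotomic n ℤ) = 0 := by
      rw [hηdef, AdjoinRoot.aeval_eq, AdjoinRoot.mk_self]
    have hc : cyclotomic n (AdjoinRoot (cyclotomic n ℤ)) =
        (cyclotomic n ℤ).map (Int.castRingHom _) := (map_cyclotomic_int n _).symm
    rw [IsRoot.def, hc, eval_map]
    rw [aeval_def] at h0
    have he : algebraMap ℤ (AdjoinRoot (cyclotomic n ℤ)) = Int.castRingHom _ :=
      RingHom.ext_int _ _
    rw [← he]
    exact h0
  obtain ⟨h1, h2⟩ := domain_case n hn η hη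
  have hζ' : eval₂ (Int.castRingHom R) ζ (cyclotomic n ℤ) = 0 := by
    rw [← hζ, aeval_def]; rfl
  let φ : AdjoinRoot (cyclotomic n ℤ) →+* R := AdjoinRoot.lift (Int.castRingHom R) ζ hζ'
  have hφ : φ η = ζ := AdjoinRoot.lift_root hζ'
  constructor
  · have := congrArg (Polynomial.map φ) h1
    simpa [Polynomial.map_prod, hφ] using this
  · have := congrArg φ h2
    simpa [map_prod, hφ] using this

theorem isUnit_one_sub_pow {R : Type*} [CommRing R] (n : ℕ) (hn : 1 ≤ n) (hu : IsUnit (n : R)) (ζ : R)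
    (hζ : aeval ζ (cyclotomic n ℤ) = 0) (k : ℕ) (hk0 : 0 < k) (hkn : k < n) :
    IsUnit (1 - ζ ^ k) := by
  have h := (key_alg n hn ζ hζ).2
  rw [← h] at hu
  exact (IsUnit.prod_iff.mp hu) k (Finset.mem_Ico.mpr ⟨hk0, hkn⟩)

theorem pow_n_eq_one {R : Type*} [CommRing R] (n : ℕ) (hn : 1 ≤ n) (ζ : R)
    (hζ : aeval ζ (cyclotomic n ℤ) = 0) : ζ ^ n = 1 := by
  obtain ⟨q, hq⟩ := cyclotomic.dvd_X_pow_sub_one n ℤ
  have := congrArg (aeval ζ) hq
  rw [map_mul, hζ, zero_mul] at this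
  simpa [sub_eq_zero] using this

theorem prod_sub_pow {R : Type*} [CommRing R] (n : ℕ) (hn : 1 ≤ n) (ζ : R)
    (hζ : aeval ζ (cyclotomic n ℤ) = 0) (y : R) (hy : y ^ n = 1) :
    ∏ k ∈ Finset.range n, (y - ζ ^ k) = 0 := by
  have h := (key_alg n hn ζ hζ).1
  have := congrArg (eval y) h
  simp only [eval_sub, eval_pow, eval_X, eval_one, eval_prod, eval_C] at this
  rw [← this, hy, sub_self]

theorem isUnit_pow_sub_pow {R : Type*} [CommRing R] (n : ℕ) (hn : 1 ≤ n) (hu : IsUnit (n : R)) (ζ : R)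
    (hζ : aeval ζ (cyclotomic n ℤ) = 0) (a b : ℕ) (ha : a < n) (hb : b < n) (hab : a ≠ b) :
    IsUnit (ζ ^ a - ζ ^ b) := by
  have hζu : IsUnit ζ := by
    have h1 := pow_n_eq_one n hn ζ hζ
    exact IsUnit.of_pow_eq_one h1 (by omega)
  have key : ∀ a b : ℕ, a < b → b < n → IsUnit (ζ ^ a - ζ ^ b) := by
    intro a b hab hb
    have h2 : ζ ^ a - ζ ^ b = ζ ^ a * (1 - ζ ^ (b - a)) := by
      rw [mul_sub, mul_one, ← pow_add]
      congr 2
      omega
    rw [h2]
    exact (hζu.pow a).mul (isUnit_one_sub_pow n hn hu ζ hζ (b - a) (by omega) (by omega))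
  rcases lt_or_gt_of_ne hab with h | h
  · exact key a b h hb
  · have := key b a h ha
    have h3 : ζ ^ a - ζ ^ b = -(ζ ^ b - ζ ^ a) := by ring
    rw [h3]
    exact this.neg

/-- In a local ring, if `∏_{b<n} (y - ζ^b) = 0` and the `ζ^a - ζ^b` are units, then for some `a`
the partial product omitting `a` is a unit. -/
theorem exists_isUnit_prod_erase {R : Type*} [CommRing R] [IsLocalRing R] (n : ℕ) (ζ y : R)
    (hprod : ∏ b ∈ Finset.range n, (y - ζ ^ b) = 0)
    (hdiff : ∀ a b : ℕ, a < n → b < n → a ≠ b → IsUnit (ζ ^ a - ζ ^ b)) :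
    ∃ a, a < n ∧ IsUnit (∏ b ∈ (Finset.range n).erase a, (y - ζ ^ b)) := by
  have hex : ∃ a ∈ Finset.range n, ¬ IsUnit (y - ζ ^ a) := by
    by_contra hcon
    push Not at hcon
    have : IsUnit (∏ b ∈ Finset.range n, (y - ζ ^ b)) := IsUnit.prod_iff.mpr hcon
    rw [hprod] at this
    exact not_isUnit_zero this
  obtain ⟨a, ha, hna⟩ := hex
  rw [Finset.mem_range] at ha
  refine ⟨a, ha, IsUnit.prod_iff.mpr ?_⟩
  intro b hb
  rw [Finset.mem_erase, Finset.mem_range] at hb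
  have hu := hdiff a b ha hb.2 (Ne.symm hb.1)
  have h1 : y - ζ ^ b = (y - ζ ^ a) + (ζ ^ a - ζ ^ b) := by ring
  rw [h1]
  by_contra hnu
  have h2 : (y - ζ ^ a) + (ζ ^ a - ζ ^ b) ∈ nonunits R := hnu
  have h3 : (y - ζ ^ a) ∈ nonunits R := hna
  have h4 : (ζ ^ a - ζ ^ b) ∈ nonunits R := by
    have : ζ ^ a - ζ ^ b = ((y - ζ ^ a) + (ζ ^ a - ζ ^ b)) - (y - ζ ^ a) := by ring
    rw [this]
    have hm := IsLocalRing.maximalIdeal R
    have e2 : (y - ζ ^ a) + (ζ ^ a - ζ ^ b) ∈ IsLocalRing.maximalIdeal R := h2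
    have e3 : (y - ζ ^ a) ∈ IsLocalRing.maximalIdeal R := h3
    exact (IsLocalRing.maximalIdeal R).sub_mem e2 e3
  exact h4 hu

end Groth.Agent.Lib.Helper11.CycloUnits
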