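import Mathlib

/-!
# Krull dimension is preserved by injective integral extensions (helper11)
-/

namespace Groth.Agent.Lib.Helper11.IntegralDim

variable {R S : Type*} [CommRing R] [CommRing S] [Algebra R S]

lemma ringKrullDim_le_of_isIntegral [Algebra.IsIntegral R S] :
    ringKrullDim S ≤ ringKrullDim R := by
  refine Order.krullDim_le_of_strictMono (PrimeSpectrum.comap (algebraMap R S)) ?_
  intro q q' hlt
  have hle : q.asIdeal ≤ q'.asIdeal := hlt.le
  have hne : q.asIdeal ≠ q'.asIdeal := fun h => hlt.ne (PrimeSpectrum.ext h)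
  obtain ⟨x, hxq', hxq⟩ := SetLike.exists_of_lt (lt_of_le_of_ne hle hne)
  exact Ideal.comap_lt_comap_of_integral_mem_sdiff hle ⟨hxq', hxq⟩ (Algebra.IsIntegral.isIntegral x)

lemma ringKrullDim_ge_of_isIntegral_of_injective [Algebra.IsIntegral R S]
    (hinj : Function.Injective (algebraMap R S)) :
    ringKrullDim R ≤ ringKrullDim S := by
  unfold ringKrullDim Order.krullDim
  refine iSup_le fun l => ?_
  obtain ⟨P, -, hP, hPl⟩ := Ideal.exists_ideal_over_prime_of_isIntegral
    (R := R) (S := S) l.head.asIdeal ⊥ (by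
      rw [← RingHom.ker_eq_comap_bot, (RingHom.injective_iff_ker_eq_bot _).1 hinj]; exact bot_le)
  haveI := hP
  haveI : P.LiesOver l.head.asIdeal := ⟨hPl.symm⟩
  obtain ⟨L, hlen, -, -⟩ := Ideal.exists_ltSeries_of_hasGoingUp l P
  rw [← hlen]
  exact le_iSup (fun L : LTSeries (PrimeSpectrum S) => (L.length : WithBot ℕ∞)) L

lemma ringKrullDim_eq_of_isIntegral_of_injective [Algebra.IsIntegral R S]
    (hinj : Function.Injective (algebraMap R S)) :
    ringKrullDim S = ringKrullDim R :=
  le_antisymm ringKrullDim_le_of_isIntegral (ringKrullDim_ge_of_isIntegral_of_injective hinj)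

end Groth.Agent.Lib.Helper11.IntegralDim
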