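import Groth.Prelude.Def_Smoothing
import Mathlib.RingTheory.Smooth.StandardSmooth
import Mathlib.RingTheory.Localization.Away.Basic
import Mathlib.LinearAlgebra.Matrix.Adjugate

/-!
# Elementary standard elements give standard smooth localizations (helper11)
-/

set_option autoImplicit false

universe u

namespace Groth.Agent.Lib.Helper11.ElemStd

open MvPolynomial

/-- Determinant trick. -/
theorem det_trick {P : Type*} [CommRing P] {m : ℕ} (f : Fin m → P) (K : Ideal P) (ã : P)
    (h : ∀ j, ã * f j ∈ K ⊔ Ideal.span (Set.range f) ^ 2) :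
    ∃ q : P, (∀ j, q * f j ∈ K) ∧ q - ã ^ m ∈ Ideal.span (Set.range f) := by
  classical
  set I := Ideal.span (Set.range f) with hI
  have h' : ∀ j, ∃ k ∈ K, ∃ c : Fin m → P, (∀ i, c i ∈ I) ∧ ã * f j = k + ∑ i, c i * f i := by
    intro j
    obtain ⟨k, hk, y, hy, hky⟩ := Submodule.mem_sup.1 (h j)
    rw [pow_two] at hy
    have hy' : y ∈ I • Submodule.span P (Set.range f) := hy
    rw [Submodule.mem_ideal_smul_span_iff_exists_sum] at hy'
    obtain ⟨c, hc, hcy⟩ := hy'
    refine ⟨k, hk, fun i => c i, hc, ?_⟩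
    rw [← hky, ← hcy, Finsupp.sum_fintype _ _ (fun i => by simp)]
    simp [smul_eq_mul]
  choose k hk c hc hkc using h'
  let H : Matrix (Fin m) (Fin m) P := Matrix.of fun j i => c j i
  let M : Matrix (Fin m) (Fin m) P := ã • (1 : Matrix (Fin m) (Fin m) P) - H
  have hMf : ∀ j, (M.mulVec f) j = k j := by
    intro j
    have h0 : M.mulVec f = ã • f - H.mulVec f := by
      rw [Matrix.sub_mulVec, Matrix.smul_mulVec, Matrix.one_mulVec]
    rw [h0, Pi.sub_apply, Pi.smul_apply, smul_eq_mul, hkc j]
    simp [H, Matrix.mulVec, dotProduct]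
  refine ⟨M.det, ?_, ?_⟩
  · intro j
    have h1 : M.det • f = M.adjugate.mulVec (M.mulVec f) := by
      rw [Matrix.mulVec_mulVec, Matrix.adjugate_mul, Matrix.smul_mulVec, Matrix.one_mulVec]
    have h2 := congrFun h1 j
    simp only [Pi.smul_apply, smul_eq_mul] at h2
    rw [h2, Matrix.mulVec, dotProduct]
    refine Ideal.sum_mem _ (fun i _ => ?_)
    rw [hMf i]
    exact Ideal.mul_mem_left _ _ (hk i)
  · rw [← Ideal.Quotient.eq, RingHom.map_det, map_pow]
    have : (Ideal.Quotient.mk I).mapMatrix M = (Ideal.Quotient.mk I ã) • (1 : Matrix (Fin m) (Fin m) (P ⧸ I)) := by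
      ext j i
      simp only [M, H, RingHom.mapMatrix_apply, Matrix.map_apply, Matrix.sub_apply, Matrix.smul_apply,
        Matrix.of_apply, map_sub, smul_eq_mul, map_mul]
      rw [Ideal.Quotient.eq_zero_iff_mem.2 (hc j i), sub_zero]
      by_cases hji : j = i
      · subst hji; simp
      · simp [Matrix.one_apply_ne hji]
    rw [this, Matrix.det_smul, Matrix.det_one, mul_one, Fintype.card_fin]

/-- If `π : C → A` is surjective, `s` kills `ker π`, `a ∣ π s` and `π s ∣ a ^ N`, then `A_a` is the
localization of `C` away from `s`. -/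
theorem isLocalization_away_of_surjective {C A T : Type*} [CommRing C] [CommRing A] [CommRing T]
    [Algebra A T] [Algebra C T] (π : C →+* A) (hπ : Function.Surjective π)
    (hcomp : ∀ x, algebraMap C T x = algebraMap A T (π x))
    (a : A) [IsLocalization.Away a T] (s : C)
    (hker : ∀ y, π y = 0 → s * y = 0)
    (b : A) (hb : π s = a * b) (b' : A) (N : ℕ) (hb' : a ^ N = π s * b') :
    IsLocalization.Away s T := by
  have hunit : IsUnit (algebraMap A T (π s)) := by
    have h1 : IsUnit (algebraMap A T (a ^ N)) := by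
      rw [map_pow]; exact (IsLocalization.Away.algebraMap_isUnit a).pow N
    rw [hb', map_mul] at h1
    exact isUnit_of_mul_isUnit_left h1
  refine IsLocalization.Away.mk s ?_ ?_ ?_
  · rw [hcomp]; exact hunit
  · intro z
    obtain ⟨n, x, hx⟩ := IsLocalization.Away.surj a z
    obtain ⟨c, hc⟩ := hπ (x * b ^ n)
    refine ⟨n, c, ?_⟩
    rw [hcomp, hcomp, hc, hb, map_mul, map_mul, map_pow, mul_pow, ← mul_assoc, hx]
  · intro c1 c2 h
    rw [hcomp, hcomp] at h
    obtain ⟨k, hk⟩ := IsLocalization.Away.exists_of_eq a h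
    refine ⟨k + 1, ?_⟩
    have h1 : π (s ^ k * c1 - s ^ k * c2) = 0 := by
      rw [map_sub, map_mul, map_mul, map_pow, hb, mul_pow]
      have : a ^ k * b ^ k * π c1 = b ^ k * (a ^ k * π c1) := by ring
      rw [this, hk]; ring
    have h2 := hker _ h1
    rw [mul_sub, sub_eq_zero] at h2
    rw [pow_succ']
    rw [mul_assoc, mul_assoc]
    exact h2

open Smoothing in
theorem isStandardSmooth_of_marked {R A : Type u} [CommRing R] [CommRing A] [Algebra R A] (a : A)
    (P : Smoothing.MarkedPresentation R A) (a' : A)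
    (haa : a = a' * P.hom (Smoothing.jacobianMinor P.rel (Fin.castLE P.hcm) (Fin.castLE P.hcn)))
    (hKT : Smoothing.KillsTail P a) : Algebra.IsStandardSmooth R (Localization.Away a) := by
  classical
  let v : Fin P.c → MvPolynomial (Fin P.n) R := fun j => P.rel (Fin.castLE P.hcm j)
  set K : Ideal (MvPolynomial (Fin P.n) R) := Ideal.span (Set.range v) with hKdef
  set I : Ideal (MvPolynomial (Fin P.n) R) := Ideal.span (Set.range P.rel) with hIdef
  have hKI : K ≤ I := Ideal.span_mono (by rintro _ ⟨j, rfl⟩; exact ⟨_, rfl⟩)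
  have hI : RingHom.ker P.hom.toRingHom = I := P.ker_eq
  obtain ⟨ã, hã⟩ := P.surj a
  have hvmem : ∀ j : Fin P.m, (j : ℕ) < P.c → P.rel j ∈ K := by
    intro j hj
    apply Ideal.subset_span
    exact ⟨⟨j, hj⟩, rfl⟩
  have hK' : Ideal.span (P.rel '' {j' : Fin P.m | (j' : ℕ) < P.c}) ≤ K := by
    rw [Ideal.span_le]
    rintro _ ⟨j, hj, rfl⟩
    exact hvmem j hj
  have hall : ∀ j, ã * P.rel j ∈ K ⊔ I ^ 2 := by
    intro j
    by_cases hj : P.c ≤ (j : ℕ)
    · exact sup_le_sup_right hK' _ (hKT ã hã j hj)
    · push Not at hj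
      exact Ideal.mem_sup_left (Ideal.mul_mem_left _ _ (hvmem j hj))
  obtain ⟨q, hq, hqa⟩ := det_trick P.rel K ã hall
  have hq' : P.hom q = a ^ P.m := by
    have h1 : q - ã ^ P.m ∈ RingHom.ker P.hom.toRingHom := by rw [hI]; exact hqa
    rw [RingHom.mem_ker] at h1
    have h2 : P.hom q - P.hom ã ^ P.m = 0 := by simpa using h1
    rw [hã] at h2; exact sub_eq_zero.1 h2
  have hqI : ∀ y ∈ I, q * y ∈ K := by
    intro y hy
    refine Submodule.span_induction (p := fun y _ => q * y ∈ K) ?_ ?_ ?_ ?_ hy
    · rintro _ ⟨j, rfl⟩; exact hq j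
    · simp
    · intro x y _ _ hx hy; rw [mul_add]; exact K.add_mem hx hy
    · intro r x _ hx; rw [smul_eq_mul, mul_left_comm]; exact K.mul_mem_left _ hx
  -- the intermediate algebra `C = R[x] / (leading relations)`
  set g : MvPolynomial (Fin P.n) R :=
    Smoothing.jacobianMinor P.rel (Fin.castLE P.hcm) (Fin.castLE P.hcn) with hg
  let C := MvPolynomial (Fin P.n) R ⧸ Ideal.span (Set.range v)
  have hKker : ∀ x ∈ Ideal.span (Set.range v), P.hom x = 0 := by
    intro x hx
    have : x ∈ RingHom.ker P.hom.toRingHom := by rw [hI]; exact hKI hx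
    exact this
  let π : C →ₐ[R] A := Ideal.Quotient.liftₐ (Ideal.span (Set.range v)) P.hom hKker
  have hπmk : ∀ x, π (Ideal.Quotient.mk _ x) = P.hom x := fun x => rfl
  have hπsurj : Function.Surjective π := by
    intro y
    obtain ⟨x, rfl⟩ := P.surj y
    exact ⟨Ideal.Quotient.mk _ x, hπmk x⟩
  let s : C := Ideal.Quotient.mk _ (g * ã * q)
  have hπs : π s = a * (P.hom g * a ^ P.m) := by
    rw [hπmk, map_mul, map_mul, hã, hq']; ring
  have hker : ∀ y : C, π y = 0 → s * y = 0 := by
    intro y hy
    obtain ⟨y', rfl⟩ := Ideal.Quotient.mk_surjective y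
    rw [hπmk] at hy
    have hy' : y' ∈ I := by rw [← hI]; exact hy
    rw [← map_mul, Ideal.Quotient.eq_zero_iff_mem, mul_assoc]
    exact Ideal.mul_mem_left _ _ (hqI y' hy')
  let algCT : Algebra C (Localization.Away a) :=
    ((algebraMap A (Localization.Away a)).comp π.toRingHom).toAlgebra
  have hcomp : ∀ x : C, algebraMap C (Localization.Away a) x =
      algebraMap A (Localization.Away a) (π x) := fun x => rfl
  have : IsScalarTower R C (Localization.Away a) := by
    refine IsScalarTower.of_algebraMap_eq (R := R) (S := C) (A := Localization.Away a) (fun r => ?_)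
    rw [hcomp, π.commutes]
    exact IsScalarTower.algebraMap_apply R A (Localization.Away a) r
  have : IsLocalization.Away s (Localization.Away a) := by
    refine isLocalization_away_of_surjective π.toRingHom hπsurj hcomp a s hker
      (P.hom g * a ^ P.m) hπs a' (P.m + 2) ?_
    change a ^ (P.m + 2) = π s * a'
    rw [hπs]
    have : a' * P.hom g = a := haa.symm
    calc a ^ (P.m + 2) = a * a ^ P.m * a := by ring
      _ = a * a ^ P.m * (a' * P.hom g) := by rw [this]
      _ = _ := by ring
  let PC : Algebra.PreSubmersivePresentation R C (Fin P.n) (Fin P.c) :=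
    Algebra.PreSubmersivePresentation.naive (v := v) (Fin.castLE P.hcn) (Fin.castLE_injective _)
  let Q : Algebra.PreSubmersivePresentation C (Localization.Away a) Unit Unit :=
    Algebra.PreSubmersivePresentation.localizationAway (Localization.Away a) s
  have hjac : IsUnit (Q.comp PC).jacobian := by
    rw [Algebra.PreSubmersivePresentation.comp_jacobian_eq_jacobian_smul_jacobian,
      Algebra.PreSubmersivePresentation.localizationAway_jacobian, Algebra.smul_def]
    refine IsUnit.mul ?_ (IsLocalization.Away.algebraMap_isUnit s)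
    have hPCjac : PC.jacobian = Ideal.Quotient.mk _ g := by
      rw [Algebra.PreSubmersivePresentation.jacobian_eq_jacobiMatrix_det]
      change Ideal.Quotient.mk _ (PC.jacobiMatrix.det) = _
      congr 1
      rw [hg, Smoothing.jacobianMinor, ← Matrix.det_transpose]
      congr 1
      ext i j
      rw [Matrix.transpose_apply, Algebra.PreSubmersivePresentation.jacobiMatrix_naive]
      rfl
    rw [hPCjac, hcomp, hπmk]
    have h1 : IsUnit (algebraMap A (Localization.Away a) a) :=
      IsLocalization.Away.algebraMap_isUnit a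
    have h2 : algebraMap A (Localization.Away a) a =
        algebraMap A (Localization.Away a) a' * algebraMap A (Localization.Away a) (P.hom g) := by
      rw [← map_mul, ← haa]
    rw [h2] at h1
    exact isUnit_of_mul_isUnit_right h1
  exact (Algebra.SubmersivePresentation.mk (Q.comp PC) hjac).isStandardSmooth

end Groth.Agent.Lib.Helper11.ElemStd
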