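import Mathlib

/-!
# Krull dimension of images under generalizing maps with "discrete" fibres

If `f : X → Y` is a continuous generalizing map between sober T0 spaces such that no two distinct
points of a fibre specialize to each other, then for every open `W ⊆ X` with open image,
`dim W = dim f(W)`.
-/

open Order TopologicalSpace Topology

namespace Groth.Agent.Lib.Helper11.TopDim

section

variable {X Y : Type*} [TopologicalSpace X] [TopologicalSpace Y]
  [QuasiSober X] [T0Space X] [QuasiSober Y] [T0Space Y]

theorem dim_eq_of_surjective (g : X → Y) (hf : Continuous g)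
    (hgen : GeneralizingMap g) (hfib : ∀ x x' : X, x ⤳ x' → g x = g x' → x = x')
    (hsurj : Function.Surjective g) :
    topologicalKrullDim X = topologicalKrullDim Y := by
  letI : PartialOrder X := specializationOrder X
  letI : PartialOrder Y := specializationOrder Y
  have e1 : topologicalKrullDim X = krullDim X := krullDim_eq_of_orderIso irreducibleSetEquivPoints
  have e2 : topologicalKrullDim Y = krullDim Y := krullDim_eq_of_orderIso irreducibleSetEquivPoints
  rw [e1, e2]
  have hg : StrictMono g := by
    intro x y hxy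
    have hle : y ⤳ x := hxy.le
    refine lt_of_le_of_ne ?_ ?_
    · exact (hle.map hf : g y ⤳ g x)
    · intro h
      have h2 : y = x := hfib _ _ hle h.symm
      exact hxy.ne h2.symm
  have hlift : ∀ a : X, ∀ b : Y, g a < b → ∃ a' : X, a < a' ∧ g a' = b := by
    intro a b hab
    have hle : b ⤳ g a := hab.le
    obtain ⟨a', ha', hfa'⟩ := hgen hle
    refine ⟨a', ?_, hfa'⟩
    refine lt_of_le_of_ne (ha' : a' ⤳ a) ?_
    intro h
    have : g a = b := by rw [h]; exact hfa'
    exact hab.ne this
  rw [krullDim_eq_iSup_coheight, krullDim_eq_iSup_coheight]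
  apply le_antisymm
  · refine iSup_le fun a => ?_
    rw [coheight_eq_of_strictMono g hg hlift a]
    exact le_iSup (fun b : Y => (coheight b : WithBot ℕ∞)) (g a)
  · refine iSup_le fun b => ?_
    obtain ⟨a, rfl⟩ := hsurj b
    rw [← coheight_eq_of_strictMono g hg hlift a]
    exact le_iSup (fun a : X => (coheight a : WithBot ℕ∞)) a

end

variable {X Y : Type*} [TopologicalSpace X] [TopologicalSpace Y]
  [QuasiSober X] [T0Space X] [QuasiSober Y] [T0Space Y]

theorem dim_image_eq (f : X → Y) (hf : Continuous f)
    (hgen : GeneralizingMap f) (hfib : ∀ x x' : X, x ⤳ x' → f x = f x' → x = x')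
    (W : Set X) (hW : IsOpen W) (hW' : IsOpen (f '' W)) :
    topologicalKrullDim W = topologicalKrullDim (f '' W) := by
  have : QuasiSober W := hW.isOpenEmbedding_subtypeVal.quasiSober
  have : QuasiSober (f '' W) := hW'.isOpenEmbedding_subtypeVal.quasiSober
  let g : W → f '' W := fun x => ⟨f x, Set.mem_image_of_mem f x.2⟩
  refine dim_eq_of_surjective g ?_ ?_ ?_ ?_
  · exact (hf.comp continuous_subtype_val).subtype_mk _
  · intro a b hab
    have hle : (b : Y) ⤳ f a := (subtype_specializes_iff b (g a)).mp hab
    obtain ⟨a', ha', hfa'⟩ := hgen hle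
    have ha'W : a' ∈ W := ha'.mem_open hW a.2
    exact ⟨⟨a', ha'W⟩, (subtype_specializes_iff _ _).mpr ha', Subtype.ext hfa'⟩
  · intro x x' hxx' h
    exact Subtype.ext (hfib _ _ ((subtype_specializes_iff _ _).mp hxx') (congrArg Subtype.val h))
  · rintro ⟨_, x, hx, rfl⟩
    exact ⟨⟨x, hx⟩, rfl⟩

end Groth.Agent.Lib.Helper11.TopDim
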