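import Mathlib

/-!
# Generic finite presentation for finite type extensions of domains (helper11)

`exists_away_finitePresentation`: for an injective finite type map of domains `R → S` there is a
nonzero `g : S` with `S[1/g]` finitely presented over `R`.
-/

open Polynomial

namespace Groth.Agent.Lib.Helper11.GenericFP

universe u

section pseudo

variable {R : Type*} [CommRing R] [IsDomain R] {A : Type*} [CommRing A] [Algebra R A]

/-- Pseudo-division by a polynomial of minimal degree killing `s`. -/
lemma exists_pow_mul_mem_span (s : A) (P : R[X]) (hP0 : P ≠ 0) (hPs : aeval s P = 0)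
    (hmin : ∀ Q : R[X], Q ≠ 0 → aeval s Q = 0 → P.natDegree ≤ Q.natDegree) :
    ∀ (n : ℕ) (Q : R[X]), Q.natDegree ≤ n → aeval s Q = 0 →
      ∃ k : ℕ, C P.leadingCoeff ^ k * Q ∈ Ideal.span {P} := by
  intro n
  induction n using Nat.strong_induction_on with
  | _ n ih =>
    intro Q hQn hQs
    by_cases hQ0 : Q = 0
    · exact ⟨0, by simp [hQ0]⟩
    have hd : P.natDegree ≤ Q.natDegree := hmin Q hQ0 hQs
    set a := P.leadingCoeff with ha
    set b := Q.leadingCoeff with hb
    have ha0 : a ≠ 0 := leadingCoeff_ne_zero.2 hP0
    have hb0 : b ≠ 0 := leadingCoeff_ne_zero.2 hQ0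
    set Q₁ : R[X] := C a * Q - C b * X ^ (Q.natDegree - P.natDegree) * P with hQ₁
    have hs₁ : aeval s Q₁ = 0 := by
      simp [hQ₁, hQs, hPs]
    have hdeg : Q₁.degree < Q.degree := by
      have h1 : (C a * Q).degree = Q.degree := degree_C_mul ha0
      have h2 : (C b * X ^ (Q.natDegree - P.natDegree) * P).degree = Q.degree := by
        rw [degree_mul, degree_mul, degree_C hb0, degree_X_pow, degree_eq_natDegree hP0,
          degree_eq_natDegree hQ0, zero_add, ← Nat.cast_add, Nat.sub_add_cancel hd]
      have h3 : C a * Q ≠ 0 := mul_ne_zero (C_ne_zero.2 ha0) hQ0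
      have h4 : (C a * Q).leadingCoeff =
          (C b * X ^ (Q.natDegree - P.natDegree) * P).leadingCoeff := by
        rw [leadingCoeff_mul, leadingCoeff_mul, leadingCoeff_mul, leadingCoeff_C, leadingCoeff_C,
          leadingCoeff_X_pow, mul_one, mul_comm]
      have := degree_sub_lt_left (h1.trans h2.symm) h3 h4
      rwa [h1] at this
    by_cases hQ₁0 : Q₁ = 0
    · refine ⟨1, ?_⟩
      rw [pow_one]
      have : C a * Q = C b * X ^ (Q.natDegree - P.natDegree) * P := sub_eq_zero.1 hQ₁0
      rw [this]
      exact Ideal.mul_mem_left _ _ (Ideal.mem_span_singleton_self P)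
    · have hlt : Q₁.natDegree < n :=
        lt_of_lt_of_le (natDegree_lt_natDegree hQ₁0 hdeg) hQn
      obtain ⟨k, hk⟩ := ih Q₁.natDegree hlt Q₁ le_rfl hs₁
      refine ⟨k + 1, ?_⟩
      have : C a ^ (k + 1) * Q =
          C a ^ k * Q₁ + C a ^ k * (C b * X ^ (Q.natDegree - P.natDegree)) * P := by
        rw [hQ₁]; ring
      rw [this]
      exact Ideal.add_mem _ hk (Ideal.mul_mem_left _ _ (Ideal.mem_span_singleton_self P))

end pseudo


section away

/-- If `φ : B →ₐ[R] C` is surjective and every element of the kernel is killed by a power of `a`,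
then `C[1/a]` is a localization of `B` away from `a`, hence finitely presented over `R` when `B`
is. -/
lemma finitePresentation_away_of_surjective {R B C : Type*} [CommRing R] [CommRing B] [CommRing C]
    [Algebra R B] [Algebra R C] [Algebra.FinitePresentation R B] (φ : B →ₐ[R] C)
    (hφ : Function.Surjective φ) (a : R)
    (hker : ∀ b : B, φ b = 0 → ∃ k : ℕ, (algebraMap R B a) ^ k * b = 0) :
    Algebra.FinitePresentation R (Localization.Away (algebraMap R C a)) := by
  letI : Algebra B (Localization.Away (algebraMap R C a)) :=
    ((algebraMap C (Localization.Away (algebraMap R C a))).comp φ.toRingHom).toAlgebra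
  have hB : ∀ b : B, algebraMap B (Localization.Away (algebraMap R C a)) b =
      algebraMap C (Localization.Away (algebraMap R C a)) (φ b) := fun b => rfl
  haveI : IsScalarTower R B (Localization.Away (algebraMap R C a)) :=
    IsScalarTower.of_algebraMap_eq (fun r => by
      rw [hB, AlgHom.commutes, ← IsScalarTower.algebraMap_apply])
  haveI : IsLocalization.Away (algebraMap R B a) (Localization.Away (algebraMap R C a)) := by
    refine IsLocalization.Away.mk _ ?_ (fun z => ?_) (fun x y h => ?_)
    · rw [hB, AlgHom.commutes]
      exact IsLocalization.Away.algebraMap_isUnit _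
    · obtain ⟨n, c, hc⟩ := IsLocalization.Away.surj (algebraMap R C a) z
      obtain ⟨b, rfl⟩ := hφ c
      refine ⟨n, b, ?_⟩
      rw [hB, AlgHom.commutes, hc, hB]
    · rw [hB, hB] at h
      obtain ⟨n, hn⟩ := IsLocalization.Away.exists_of_eq (algebraMap R C a) h
      have h0 : φ ((algebraMap R B a) ^ n * (x - y)) = 0 := by
        rw [map_mul, map_pow, AlgHom.commutes, map_sub, mul_sub, hn, sub_self]
      obtain ⟨k, hk⟩ := hker _ h0
      refine ⟨k + n, ?_⟩
      have : algebraMap R B a ^ (k + n) * (x - y) = 0 := by
        rw [pow_add, mul_assoc]; exact hk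
      rw [mul_sub] at this
      exact sub_eq_zero.1 this
  exact Algebra.FinitePresentation.of_isLocalizationAway (algebraMap R B a)

/-- Algebraic step: if `R' = R[s']` with `s'` algebraic over the domain `R`, then for some nonzero
`a : R` the localization of `R'` away from `a` is finitely presented over `R`. -/
lemma exists_away_finitePresentation_of_aeval_surjective {R : Type*} [CommRing R] [IsDomain R]
    {R' : Type*} [CommRing R'] [Algebra R R'] (s' : R') (hs : IsAlgebraic R s')
    (hsurj : Function.Surjective (aeval s' : R[X] →ₐ[R] R')) :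
    ∃ a : R, a ≠ 0 ∧ Algebra.FinitePresentation R (Localization.Away (algebraMap R R' a)) := by
  classical
  -- a polynomial of minimal degree killing `s'`
  have hne : {Q : R[X] | Q ≠ 0 ∧ aeval s' Q = 0}.Nonempty := hs
  obtain ⟨P, ⟨hP0, hPs⟩, hmin⟩ :=
    WellFounded.has_min (measure (fun Q : R[X] => Q.natDegree)).wf _ hne
  have hmin' : ∀ Q : R[X], Q ≠ 0 → aeval s' Q = 0 → P.natDegree ≤ Q.natDegree := by
    intro Q hQ0 hQs
    exact not_lt.1 (hmin Q ⟨hQ0, hQs⟩)
  refine ⟨P.leadingCoeff, leadingCoeff_ne_zero.2 hP0, ?_⟩
  let φ : AdjoinRoot P →ₐ[R] R' :=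
    AdjoinRoot.liftAlgHom P (Algebra.ofId R _) s' (by
      simpa [aeval_def] using hPs)
  have hφmk : ∀ Q : R[X], φ (AdjoinRoot.mk P Q) = aeval s' Q := by
    intro Q
    simp [φ, aeval_def, Algebra.ofId]
  apply finitePresentation_away_of_surjective φ
  · intro x
    obtain ⟨Q, rfl⟩ := hsurj x
    exact ⟨AdjoinRoot.mk P Q, hφmk Q⟩
  · intro b hb
    obtain ⟨Q, rfl⟩ := AdjoinRoot.mk_surjective b
    have hQs : aeval s' Q = 0 := by
      rw [← hφmk, hb]
    obtain ⟨k, hk⟩ := exists_pow_mul_mem_span s' P hP0 hPs hmin' Q.natDegree Q le_rfl hQs
    refine ⟨k, ?_⟩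
    rw [Ideal.mem_span_singleton] at hk
    have := AdjoinRoot.mk_eq_zero.2 hk
    rw [map_mul, map_pow] at this
    rw [← this]
    congr 2

end away



section step

/-- The composition step in the algebraic case. -/
lemma algebraic_step {R R' S : Type u} [CommRing R] [CommRing R'] [CommRing S] [Algebra R R']
    [Algebra R' S] [Algebra R S] [IsScalarTower R R' S] (g' : S) (a : R)
    (hg'fp : Algebra.FinitePresentation R' (Localization.Away g'))
    (hafp : Algebra.FinitePresentation R (Localization.Away (algebraMap R R' a))) :
    Algebra.FinitePresentation R (Localization.Away (g' * algebraMap R S a)) := by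
  set a' : S := algebraMap R S a with ha'
  -- `T` is finitely presented over `R'`
  have h1 : Algebra.FinitePresentation R'
      (Localization.Away (algebraMap S (Localization.Away g') a')) := inferInstance
  have hunit : IsUnit (algebraMap R' (Localization.Away (algebraMap S (Localization.Away g') a'))
      (algebraMap R R' a)) := by
    have : algebraMap R' (Localization.Away (algebraMap S (Localization.Away g') a'))
        (algebraMap R R' a) =
        algebraMap (Localization.Away g') _ (algebraMap S (Localization.Away g') a') := by
      rw [ha', IsScalarTower.algebraMap_apply R R' S,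
        ← IsScalarTower.algebraMap_apply R' S (Localization.Away g'),
        ← IsScalarTower.algebraMap_apply R' (Localization.Away g')]
    rw [this]
    exact IsLocalization.Away.algebraMap_isUnit _
  letI : Algebra (Localization.Away (algebraMap R R' a))
      (Localization.Away (algebraMap S (Localization.Away g') a')) :=
    (IsLocalization.Away.lift (algebraMap R R' a)
      (g := algebraMap R' (Localization.Away (algebraMap S (Localization.Away g') a')))
      hunit).toAlgebra
  haveI : IsScalarTower R' (Localization.Away (algebraMap R R' a))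
      (Localization.Away (algebraMap S (Localization.Away g') a')) :=
    IsScalarTower.of_algebraMap_eq (fun x => (IsLocalization.Away.lift_eq _ hunit x).symm)
  haveI : IsScalarTower R (Localization.Away (algebraMap R R' a))
      (Localization.Away (algebraMap S (Localization.Away g') a')) :=
    IsScalarTower.of_algebraMap_eq (fun x => by
      rw [IsScalarTower.algebraMap_apply R R'
          (Localization.Away (algebraMap S (Localization.Away g') a')),
        IsScalarTower.algebraMap_apply R R' (Localization.Away (algebraMap R R' a)),
        ← IsScalarTower.algebraMap_apply R' (Localization.Away (algebraMap R R' a))])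
  have h2 : Algebra.FinitePresentation (Localization.Away (algebraMap R R' a))
      (Localization.Away (algebraMap S (Localization.Away g') a')) :=
    Algebra.FinitePresentation.of_restrict_scalars_finitePresentation R' _ _
  have h3 : Algebra.FinitePresentation R
      (Localization.Away (algebraMap S (Localization.Away g') a')) :=
    Algebra.FinitePresentation.trans R (Localization.Away (algebraMap R R' a)) _
  haveI : IsLocalization.Away (g' * a')
      (Localization.Away (algebraMap S (Localization.Away g') a')) := inferInstance
  let e : Localization.Away (g' * a') ≃ₐ[S]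
      Localization.Away (algebraMap S (Localization.Away g') a') :=
    IsLocalization.algEquiv (Submonoid.powers (g' * a')) _ _
  exact Algebra.FinitePresentation.equiv (e.symm.restrictScalars R)

lemma trans_step {R R' S : Type*} [CommRing R] [CommRing R'] [CommRing S] [Algebra R R']
    [Algebra R' S] [Algebra R S] [IsScalarTower R R' S] (g' : S)
    (h1 : Algebra.FinitePresentation R R')
    (h2 : Algebra.FinitePresentation R' (Localization.Away g')) :
    Algebra.FinitePresentation R (Localization.Away g') :=
  Algebra.FinitePresentation.trans R R' (Localization.Away g')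

lemma fp_of_bijective_aeval {R R' : Type*} [CommRing R] [CommRing R'] [Algebra R R'] (s' : R')
    (hbij : Function.Bijective (aeval s' : R[X] →ₐ[R] R')) : Algebra.FinitePresentation R R' :=
  Algebra.FinitePresentation.equiv (AlgEquiv.ofBijective _ hbij)

end step

section core

/-- Core statement, by induction on the number of generators. -/
theorem core : ∀ (n : ℕ) (R S : Type u) [CommRing R] [IsDomain R] [CommRing S] [IsDomain S]
    [Algebra R S], Function.Injective (algebraMap R S) → ∀ t : Finset S, t.card = n →
    Algebra.adjoin R (t : Set S) = ⊤ →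
    ∃ g : S, g ≠ 0 ∧ Algebra.FinitePresentation R (Localization.Away g) := by
  intro n
  induction n with
  | zero =>
    intro R S _ _ _ _ _ hinj t ht hadj
    classical
    have ht0 : t = ∅ := Finset.card_eq_zero.1 ht
    rw [ht0, Finset.coe_empty, Algebra.adjoin_empty] at hadj
    have hsurj : Function.Surjective (algebraMap R S) :=
      Algebra.surjective_algebraMap_iff.2 hadj.symm
    have hfp : Algebra.FinitePresentation R S :=
      Algebra.FinitePresentation.of_surjective (f := Algebra.ofId R S) hsurj (by
        have : RingHom.ker (Algebra.ofId R S).toRingHom = ⊥ :=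
          (RingHom.injective_iff_ker_eq_bot _).1 hinj
        rw [this]; exact Submodule.fg_bot)
    exact ⟨1, one_ne_zero, inferInstance⟩
  | succ n ih =>
    intro R S _ _ _ _ _ hinj t ht hadj
    classical
    obtain ⟨s₁, hs₁⟩ : t.Nonempty := Finset.card_pos.1 (by omega)
    set t' := t.erase s₁ with ht'
    have ht'card : t'.card = n := by rw [Finset.card_erase_of_mem hs₁, ht]; rfl
    -- the intermediate ring
    have hadj' : Algebra.adjoin (Algebra.adjoin R ({s₁} : Set S)) (t' : Set S) = ⊤ := by
      have h1 := Algebra.adjoin_union_eq_adjoin_adjoin R ({s₁} : Set S) (t' : Set S)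
      have h2 : ({s₁} : Set S) ∪ (t' : Set S) = (t : Set S) := by
        rw [ht', Finset.coe_erase, Set.union_diff_self, Set.union_eq_self_of_subset_left]
        simpa using hs₁
      rw [h2, hadj] at h1
      apply Subalgebra.restrictScalars_injective R
      rw [← h1, Subalgebra.restrictScalars_top]
    obtain ⟨g', hg'0, hg'fp⟩ := ih (Algebra.adjoin R ({s₁} : Set S)) S
      Subtype.val_injective t' ht'card hadj'
    by_cases halg : IsAlgebraic R s₁
    · let s' : Algebra.adjoin R ({s₁} : Set S) :=
        ⟨s₁, Algebra.subset_adjoin (Set.mem_singleton s₁)⟩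
      have hs' : ∀ Q : R[X], ((aeval s' Q : Algebra.adjoin R ({s₁} : Set S)) : S) = aeval s₁ Q := by
        intro Q
        rw [← Subalgebra.coe_val, ← aeval_algHom_apply]
        rfl
      have halg' : IsAlgebraic R s' :=
        (isAlgebraic_algHom_iff (Subalgebra.val _) Subtype.val_injective).1 halg
      have hsurj : Function.Surjective
          (aeval s' : R[X] →ₐ[R] Algebra.adjoin R ({s₁} : Set S)) := by
        rintro ⟨x, hx⟩
        rw [Algebra.adjoin_singleton_eq_range_aeval] at hx
        obtain ⟨Q, rfl⟩ := hx
        exact ⟨Q, Subtype.ext (by rw [hs']; rfl)⟩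
      obtain ⟨a, ha0, hafp⟩ := exists_away_finitePresentation_of_aeval_surjective s' halg' hsurj
      refine ⟨g' * algebraMap R S a, mul_ne_zero hg'0
        ((map_ne_zero_iff _ hinj).2 ha0), ?_⟩
      exact algebraic_step (R' := Algebra.adjoin R ({s₁} : Set S)) g' a hg'fp hafp
    · have hinj' : Function.Injective (aeval s₁ : R[X] →ₐ[R] S) :=
        transcendental_iff_injective.1 halg
      let s' : Algebra.adjoin R ({s₁} : Set S) :=
        ⟨s₁, Algebra.subset_adjoin (Set.mem_singleton s₁)⟩
      have hs' : ∀ Q : R[X], ((aeval s' Q : Algebra.adjoin R ({s₁} : Set S)) : S) = aeval s₁ Q := by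
        intro Q
        rw [← Subalgebra.coe_val, ← aeval_algHom_apply]
        rfl
      have hbij : Function.Bijective (aeval s' : R[X] →ₐ[R] Algebra.adjoin R ({s₁} : Set S)) := by
        constructor
        · intro P Q hPQ
          apply hinj'
          rw [← hs', ← hs', hPQ]
        · rintro ⟨x, hx⟩
          rw [Algebra.adjoin_singleton_eq_range_aeval] at hx
          obtain ⟨Q, rfl⟩ := hx
          exact ⟨Q, Subtype.ext (by rw [hs']; rfl)⟩
      exact ⟨g', hg'0, trans_step (R' := Algebra.adjoin R ({s₁} : Set S)) g'
        (fp_of_bijective_aeval s' hbij) hg'fp⟩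

end core

end Groth.Agent.Lib.Helper11.GenericFP
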