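import Mathlib
import Groth.Agent.Lib.Helper11.GenericFP

/-!
# The image of a finite type map contains a neighbourhood of a generic point it hits (helper11)
-/

open PrimeSpectrum

namespace Groth.Agent.Lib.Helper11.GenericImage

universe u

/-- Domain case: for an injective finite type map of domains `A → B`, the image of
`Spec B → Spec A` contains a nonempty basic open. -/
lemma domain_case {A B : Type u} [CommRing A] [IsDomain A] [CommRing B] [IsDomain B] [Algebra A B]
    [Algebra.FiniteType A B] (hinj : Function.Injective (algebraMap A B)) :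
    ∃ a : A, a ≠ 0 ∧ ∀ p : PrimeSpectrum A, a ∉ p.asIdeal →
      p ∈ Set.range (comap (algebraMap A B)) := by
  classical
  obtain ⟨t, ht⟩ := (Algebra.FiniteType.out : (⊤ : Subalgebra A B).FG)
  obtain ⟨g, hg0, hfp⟩ := GenericFP.core t.card A B hinj t rfl ht
  have hcons := isConstructible_range_comap (f := algebraMap A (Localization.Away g))
    (RingHom.finitePresentation_algebraMap.mpr hfp)
  obtain ⟨S, hS⟩ := exists_constructibleSetData_iff.mpr hcons
  have hdom : IsDomain (Localization.Away g) :=
    IsLocalization.isDomain_localization (powers_le_nonZeroDivisors_of_noZeroDivisors hg0)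
  have hinj' : Function.Injective (algebraMap A (Localization.Away g)) := by
    rw [IsScalarTower.algebraMap_eq A B (Localization.Away g)]
    exact (IsLocalization.injective (Localization.Away g)
      (powers_le_nonZeroDivisors_of_noZeroDivisors hg0)).comp hinj
  have hbot : (⟨⊥, Ideal.bot_prime⟩ : PrimeSpectrum A) ∈
      Set.range (comap (algebraMap A (Localization.Away g))) := by
    refine ⟨⟨⊥, Ideal.bot_prime⟩, ?_⟩
    ext x
    simp only [comap_asIdeal, Ideal.mem_comap, Ideal.mem_bot]
    exact (map_eq_zero_iff _ hinj')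
  rw [← hS] at hbot
  simp only [ConstructibleSetData.toSet, Set.mem_iUnion, exists_prop] at hbot
  obtain ⟨C, hC, hmem⟩ := hbot
  simp only [BasicConstructibleSetData.toSet, Set.mem_diff, mem_zeroLocus, Set.subset_def,
    Set.mem_range, SetLike.mem_coe, Ideal.mem_bot, forall_exists_index,
    forall_apply_eq_imp_iff, Set.mem_singleton_iff, forall_eq] at hmem
  refine ⟨C.f, hmem.2, fun p hp => ?_⟩
  have hpS : p ∈ S.toSet := by
    simp only [ConstructibleSetData.toSet, Set.mem_iUnion, exists_prop]
    refine ⟨C, hC, ?_⟩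
    simp only [BasicConstructibleSetData.toSet, Set.mem_diff, mem_zeroLocus, Set.subset_def,
      Set.mem_range, SetLike.mem_coe, forall_exists_index,
      forall_apply_eq_imp_iff, Set.mem_singleton_iff, forall_eq]
    exact ⟨fun i => by rw [hmem.1 i]; exact zero_mem _, hp⟩
  rw [hS] at hpS
  obtain ⟨q, rfl⟩ := hpS
  refine ⟨comap (algebraMap B (Localization.Away g)) q, ?_⟩
  rw [IsScalarTower.algebraMap_eq A B (Localization.Away g)]
  rfl

/-- For a finite type algebra `A → B` and a prime `q₀` of `B` lying over `p₀`, there is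
`a ∉ p₀` such that every prime `p ⊇ p₀` not containing `a` is in the image of `Spec B`. -/
theorem exists_notMem_forall_mem_range {A B : Type u} [CommRing A] [CommRing B] [Algebra A B]
    [Algebra.FiniteType A B] (q₀ : Ideal B) [q₀.IsPrime] :
    ∃ a : A, a ∉ q₀.comap (algebraMap A B) ∧ ∀ p : PrimeSpectrum A,
      q₀.comap (algebraMap A B) ≤ p.asIdeal → a ∉ p.asIdeal →
      p ∈ Set.range (comap (algebraMap A B)) := by
  classical
  set p₀ := q₀.comap (algebraMap A B) with hp₀
  haveI : p₀.IsPrime := Ideal.comap_isPrime _ _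
  haveI : Algebra.FiniteType A (B ⧸ q₀) :=
    Algebra.FiniteType.of_surjective (Ideal.Quotient.mkₐ A q₀) Ideal.Quotient.mk_surjective
  haveI : Algebra.FiniteType (A ⧸ p₀) (B ⧸ q₀) :=
    Algebra.FiniteType.of_restrictScalars_finiteType A (A ⧸ p₀) (B ⧸ q₀)
  obtain ⟨a', ha'0, ha'⟩ := domain_case (A := A ⧸ p₀) (B := B ⧸ q₀)
    (Ideal.algebraMap_quotient_injective)
  obtain ⟨a, rfl⟩ := Ideal.Quotient.mk_surjective a'
  refine ⟨a, fun h => ha'0 (Ideal.Quotient.eq_zero_iff_mem.2 h), fun p hle hap => ?_⟩
  have hpr : p ∈ Set.range (comap (Ideal.Quotient.mk p₀)) := by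
    rw [range_comap_of_surjective _ _ Ideal.Quotient.mk_surjective, Ideal.mk_ker]
    exact hle
  obtain ⟨p', rfl⟩ := hpr
  have : (Ideal.Quotient.mk p₀ a) ∉ p'.asIdeal := hap
  obtain ⟨q', rfl⟩ := ha' p' this
  refine ⟨comap (Ideal.Quotient.mk q₀) q', ?_⟩
  ext x
  simp only [comap_asIdeal, Ideal.mem_comap]
  rfl

end Groth.Agent.Lib.Helper11.GenericImage
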