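import Mathlib
import Groth.Prelude.Def_W4stkremschemesLRS

/-!
# Factorisation through a closed immersion of locally ringed spaces (helper11)
-/

set_option autoImplicit false
universe u

namespace Groth.Agent.Lib.Helper11.LRSFac

open AlgebraicGeometry CategoryTheory Opposite TopologicalSpace

variable {Z X Y : LocallyRingedSpace.{u}}

section presheaf

variable (i : Z ⟶ X) (f : Y ⟶ X)

/-- the image presheaf of `i.c` -/
noncomputable def P : (Opens X.toTopCat)ᵒᵖ ⥤ CommRingCat.{u} where
  obj U := CommRingCat.of (X.presheaf.obj U ⧸ RingHom.ker (i.c.app U).hom)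
  map {U V} r := CommRingCat.ofHom (Ideal.quotientMap _ (X.presheaf.map r).hom (by
    intro s hs
    rw [RingHom.mem_ker] at hs
    rw [Ideal.mem_comap, RingHom.mem_ker]
    have h := congr($(i.c.naturality r) s)
    simp only [CommRingCat.comp_apply] at h
    change (i.c.app V).hom ((X.presheaf.map r).hom s) = 0
    erw [h, hs, map_zero]))
  map_id U := by
    ext s
    change Ideal.Quotient.mk _ ((X.presheaf.map (𝟙 U)).hom s) = Ideal.Quotient.mk _ s
    rw [X.presheaf.map_id]
    rfl
  map_comp r r' := by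
    ext s
    change Ideal.Quotient.mk _ ((X.presheaf.map (r ≫ r')).hom s) =
      Ideal.Quotient.mk _ ((X.presheaf.map r').hom ((X.presheaf.map r).hom s))
    rw [X.presheaf.map_comp]
    rfl

noncomputable def π : X.presheaf ⟶ P i where
  app U := CommRingCat.ofHom (Ideal.Quotient.mk _)
  naturality U V r := by
    ext s
    rfl

noncomputable def ι : P i ⟶ i.base _* Z.presheaf where
  app U := CommRingCat.ofHom (RingHom.kerLift (i.c.app U).hom)
  naturality U V r := by
    ext s
    obtain ⟨s, rfl⟩ := Ideal.Quotient.mk_surjective (I := RingHom.ker (i.c.app U).hom) s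
    have h := congr($(i.c.naturality r) s)
    exact h

lemma π_ι : π i ≫ ι i = i.c := by
  ext U s
  rfl

lemma ι_injective (U) : Function.Injective ((ι i).app U) :=
  RingHom.kerLift_injective _

variable (H : ∀ (U : Opens X.toTopCat) (s : X.presheaf.obj (op U)),
        i.c.app (op U) s = 0 → f.c.app (op U) s = 0)

include H in
lemma ker_le (U : (Opens X.toTopCat)ᵒᵖ) :
    RingHom.ker (i.c.app U).hom ≤ RingHom.ker (f.c.app U).hom := by
  intro s hs
  rw [RingHom.mem_ker] at hs ⊢
  exact H U.unop s hs

noncomputable def ψ : P i ⟶ f.base _* Y.presheaf where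
  app U := CommRingCat.ofHom (Ideal.Quotient.lift _ (f.c.app U).hom (fun s hs => ker_le i f H U hs))
  naturality U V r := by
    ext s
    obtain ⟨s, rfl⟩ := Ideal.Quotient.mk_surjective (I := RingHom.ker (i.c.app U).hom) s
    have h := congr($(f.c.naturality r) s)
    exact h

lemma π_ψ : π i ≫ ψ i f H = f.c := by
  ext U s
  rfl

lemma W_ι (hi : TopCat.Presheaf.IsLocallySurjective i.c) :
    (Opens.grothendieckTopology X.toTopCat).W (ι i) := by
  rw [GrothendieckTopology.W_iff_isLocallyBijective]
  constructor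
  · exact Presheaf.isLocallyInjective_of_injective _ _ (fun U => ι_injective i U)
  · have : Presheaf.IsLocallySurjective (Opens.grothendieckTopology X.toTopCat) (π i ≫ ι i) := by
      rw [π_ι]; exact hi
    exact Presheaf.isLocallySurjective_of_isLocallySurjective_fac _ (f₁ := π i) (f₂ := ι i) rfl

include H in
/-- the factorisation at the level of sheaves on `X` -/
lemma exists_φ (hi : TopCat.Presheaf.IsLocallySurjective i.c) :
    ∃ φ : i.base _* Z.presheaf ⟶ f.base _* Y.presheaf, i.c ≫ φ = f.c := by
  have hsh : Presheaf.IsSheaf (Opens.grothendieckTopology X.toTopCat) (f.base _* Y.presheaf) :=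
    TopCat.Sheaf.pushforward_sheaf_of_sheaf f.base Y.IsSheaf
  obtain ⟨φ, hφ⟩ := (W_ι i hi _ hsh).2 (ψ i f H)
  refine ⟨φ, ?_⟩
  rw [← π_ι, Category.assoc]
  have : ι i ≫ φ = ψ i f H := hφ
  rw [this, π_ψ]

/-- uniqueness at the level of sheaves on `X` -/
lemma φ_unique (hi : TopCat.Presheaf.IsLocallySurjective i.c)
    (φ φ' : i.base _* Z.presheaf ⟶ f.base _* Y.presheaf) (h : i.c ≫ φ = i.c ≫ φ') : φ = φ' := by
  have hsh : Presheaf.IsSheaf (Opens.grothendieckTopology X.toTopCat) (f.base _* Y.presheaf) :=
    TopCat.Sheaf.pushforward_sheaf_of_sheaf f.base Y.IsSheaf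
  apply (W_ι i hi _ hsh).1
  change ι i ≫ φ = ι i ≫ φ'
  rw [← π_ι, Category.assoc, Category.assoc] at h
  ext U s
  obtain ⟨s, rfl⟩ := Ideal.Quotient.mk_surjective (I := RingHom.ker (i.c.app U).hom) s
  exact congr($(h).app U s)

end presheaf

end Groth.Agent.Lib.Helper11.LRSFac
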