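import Groth.Agent.Lib.Helper11.LRSFac
import Groth.Agent.Lib.Helper25.LRSClosedLocal

/-!
# Factorisation through a closed immersion of locally ringed spaces, part 2 (helper11)
-/

set_option autoImplicit false
universe u

namespace Groth.Agent.Lib.Helper11.LRSFac

open AlgebraicGeometry CategoryTheory Opposite TopologicalSpace

variable {Z X Y : LocallyRingedSpace.{u}}

section top

variable (i : Z ⟶ X) (f : Y ⟶ X) (hi : Topology.IsClosedEmbedding i.base)
  (H : ∀ (U : Opens X.toTopCat) (s : X.presheaf.obj (op U)),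
        i.c.app (op U) s = 0 → f.c.app (op U) s = 0)

include hi H in
lemma range_subset (y : Y.toTopCat) : f.base y ∈ Set.range i.base := by
  by_contra hy
  let U : Opens X.toTopCat := ⟨(Set.range i.base)ᶜ, hi.isClosed_range.isOpen_compl⟩
  have hU : (Opens.map i.base).obj U = ⊥ := by
    ext z
    simp only [Opens.map_coe, Set.mem_preimage, SetLike.mem_coe, Opens.coe_bot,
      Set.mem_empty_iff_false, iff_false]
    exact fun h => h ⟨z, rfl⟩
  have h0 : Subsingleton (Z.presheaf.obj (op ((Opens.map i.base).obj U))) :=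
    CommRingCat.subsingleton_of_isTerminal (Z.sheaf.isTerminalOfEqEmpty hU)
  have h1 : i.c.app (op U) 1 = 0 := @Subsingleton.elim _ h0 _ _
  have h2 := H U 1 h1
  have hyU : y ∈ (Opens.map f.base).obj U := hy
  have h3 : (1 : Y.presheaf.stalk y) = 0 := by
    have := congrArg (Y.presheaf.germ ((Opens.map f.base).obj U) y hyU).hom h2
    rw [map_zero] at this
    rw [← this]
    simp
  exact one_ne_zero h3

/-- the underlying function of the factorisation -/
noncomputable def bFun (y : Y.toTopCat) : Z.toTopCat := (range_subset i f hi H y).choose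

lemma i_bFun (y : Y.toTopCat) : i.base (bFun i f hi H y) = f.base y :=
  (range_subset i f hi H y).choose_spec

/-- the underlying continuous map of the factorisation -/
noncomputable def b : Y.toTopCat ⟶ Z.toTopCat :=
  TopCat.ofHom ⟨bFun i f hi H, by
    rw [hi.isInducing.continuous_iff]
    have : (i.base : Z.toTopCat → X.toTopCat) ∘ bFun i f hi H = f.base := funext (i_bFun i f hi H)
    rw [this]
    exact f.base.hom.continuous⟩

lemma b_comp : b i f hi H ≫ i.base = f.base := by
  ext y
  exact i_bFun i f hi H y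

/-- the largest open of `X` with given trace on `Z` -/
def E (V : Opens Z.toTopCat) : Opens X.toTopCat :=
  ⟨(i.base '' (V : Set Z.toTopCat)ᶜ)ᶜ, (hi.isClosedMap _ V.isOpen.isClosed_compl).isOpen_compl⟩

lemma mem_E {V : Opens Z.toTopCat} {x : X.toTopCat} :
    x ∈ E i hi V ↔ ∀ z, i.base z = x → z ∈ V := by
  change x ∈ (i.base '' (V : Set Z.toTopCat)ᶜ)ᶜ ↔ _
  simp only [Set.mem_compl_iff, Set.mem_image, SetLike.mem_coe, not_exists, not_and]
  constructor
  · intro h z hz
    by_contra hzV
    exact h z hzV hz
  · intro h z hzV hz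
    exact hzV (h z hz)

lemma map_E (V : Opens Z.toTopCat) : (Opens.map i.base).obj (E i hi V) = V := by
  ext z
  change i.base z ∈ E i hi V ↔ z ∈ V
  rw [mem_E]
  constructor
  · intro h
    exact h z rfl
  · intro hz z' hz'
    rwa [hi.injective hz']

lemma E_mono {V V' : Opens Z.toTopCat} (h : V ≤ V') : E i hi V ≤ E i hi V' := by
  intro x hx
  rw [mem_E] at hx ⊢
  exact fun z hz => h (hx z hz)

lemma le_E_map (U : Opens X.toTopCat) : U ≤ E i hi ((Opens.map i.base).obj U) := by
  intro x hx
  rw [mem_E]
  rintro z rfl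
  exact hx

lemma hle1 (V : Opens Z.toTopCat) : (Opens.map i.base).obj (E i hi V) ≤ V := (map_E i hi V).le

lemma hle2 (V : Opens Z.toTopCat) :
    (Opens.map (b i f hi H)).obj V ≤ (Opens.map f.base).obj (E i hi V) := by
  intro y hy
  change f.base y ∈ E i hi V
  rw [mem_E]
  intro z hz
  have : z = bFun i f hi H y := hi.injective (hz.trans (i_bFun i f hi H y).symm)
  rw [this]
  exact hy

end top

end Groth.Agent.Lib.Helper11.LRSFac
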