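import Groth.Agent.Lib.Helper11.LRSFac2

/-!
# Factorisation through a closed immersion of locally ringed spaces, part 3 (helper11)
-/

set_option autoImplicit false
universe u

namespace Groth.Agent.Lib.Helper11.LRSFac

open AlgebraicGeometry CategoryTheory Opposite TopologicalSpace

variable {Z X Y : LocallyRingedSpace.{u}}

section sheafmap

variable (i : Z ⟶ X) (f : Y ⟶ X) (hi : Topology.IsClosedEmbedding i.base)
  (H : ∀ (U : Opens X.toTopCat) (s : X.presheaf.obj (op U)),
        i.c.app (op U) s = 0 → f.c.app (op U) s = 0)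
  (φ : i.base _* Z.presheaf ⟶ f.base _* Y.presheaf)

/-- the sheaf map of the factorisation -/
noncomputable def gc : Z.presheaf ⟶ (b i f hi H) _* Y.presheaf where
  app V := Z.presheaf.map (homOfLE (hle1 i hi V.unop)).op ≫ φ.app (op (E i hi V.unop)) ≫
    Y.presheaf.map (homOfLE (hle2 i f hi H V.unop)).op
  naturality V V' r := by
    have hVV : V'.unop ≤ V.unop := r.unop.le
    have e1 : Z.presheaf.map r ≫ Z.presheaf.map (homOfLE (hle1 i hi V'.unop)).op =
        Z.presheaf.map (homOfLE (hle1 i hi V.unop)).op ≫
          (i.base _* Z.presheaf).map (homOfLE (E_mono i hi hVV)).op := by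
      change _ = _ ≫ Z.presheaf.map _
      rw [← Functor.map_comp, ← Functor.map_comp]
      rfl
    have e2 := φ.naturality (homOfLE (E_mono i hi hVV)).op
    have e3 : (f.base _* Y.presheaf).map (homOfLE (E_mono i hi hVV)).op ≫
        Y.presheaf.map (homOfLE (hle2 i f hi H V'.unop)).op =
        Y.presheaf.map (homOfLE (hle2 i f hi H V.unop)).op ≫
          ((b i f hi H) _* Y.presheaf).map r := by
      change Y.presheaf.map _ ≫ _ = _ ≫ Y.presheaf.map _
      rw [← Functor.map_comp, ← Functor.map_comp]
      rfl
    calc Z.presheaf.map r ≫ Z.presheaf.map (homOfLE (hle1 i hi V'.unop)).op ≫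
          φ.app (op (E i hi V'.unop)) ≫ Y.presheaf.map (homOfLE (hle2 i f hi H V'.unop)).op
        = (Z.presheaf.map r ≫ Z.presheaf.map (homOfLE (hle1 i hi V'.unop)).op) ≫
          φ.app (op (E i hi V'.unop)) ≫ Y.presheaf.map (homOfLE (hle2 i f hi H V'.unop)).op := by
          rw [Category.assoc]
      _ = Z.presheaf.map (homOfLE (hle1 i hi V.unop)).op ≫
          ((i.base _* Z.presheaf).map (homOfLE (E_mono i hi hVV)).op ≫
            φ.app (op (E i hi V'.unop))) ≫
              Y.presheaf.map (homOfLE (hle2 i f hi H V'.unop)).op := by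
          erw [e1]; simp only [Category.assoc]
      _ = Z.presheaf.map (homOfLE (hle1 i hi V.unop)).op ≫
          φ.app (op (E i hi V.unop)) ≫
            ((f.base _* Y.presheaf).map (homOfLE (E_mono i hi hVV)).op ≫
              Y.presheaf.map (homOfLE (hle2 i f hi H V'.unop)).op) := by
          erw [e2]; simp only [Category.assoc]
      _ = (Z.presheaf.map (homOfLE (hle1 i hi V.unop)).op ≫ φ.app (op (E i hi V.unop)) ≫
          Y.presheaf.map (homOfLE (hle2 i f hi H V.unop)).op) ≫
            ((b i f hi H) _* Y.presheaf).map r := by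
          erw [e3]; simp only [Category.assoc]

/-- the key compatibility: `i.c` followed by `gc` is `φ` followed by a restriction -/
lemma c_gc_app (hφ : i.c ≫ φ = f.c) (U : Opens X.toTopCat) :
    i.c.app (op U) ≫ (gc i f hi H φ).app (op ((Opens.map i.base).obj U)) =
      f.c.app (op U) ≫ Y.presheaf.map (homOfLE (show
        (Opens.map (b i f hi H)).obj ((Opens.map i.base).obj U) ≤ (Opens.map f.base).obj U by
          intro y hy
          change f.base y ∈ U
          rw [← i_bFun i f hi H y]
          exact hy)).op := by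
  have hUU : U ≤ E i hi ((Opens.map i.base).obj U) := le_E_map i hi U
  have e2 := φ.naturality (homOfLE hUU).op
  have e0 : f.c.app (op U) = i.c.app (op U) ≫ φ.app (op U) := by
    rw [← hφ]; rfl
  have e1 : Z.presheaf.map (homOfLE (hle1 i hi ((Opens.map i.base).obj U))).op ≫
      (i.base _* Z.presheaf).map (homOfLE hUU).op = 𝟙 _ := by
    change Z.presheaf.map _ ≫ Z.presheaf.map _ = _
    rw [← Functor.map_comp]
    exact Z.presheaf.map_id _
  -- φ(E) = Z.map ≫ ... : express φ.app (op U) through φ.app (op E)
  have e3 : φ.app (op U) = Z.presheaf.map (homOfLE (hle1 i hi ((Opens.map i.base).obj U))).op ≫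
      φ.app (op (E i hi ((Opens.map i.base).obj U))) ≫
        (f.base _* Y.presheaf).map (homOfLE hUU).op := by
    erw [← e2, ← Category.assoc, e1, Category.id_comp]
  rw [e0, e3]
  simp only [gc, Category.assoc]
  congr 3
  change Y.presheaf.map _ = Y.presheaf.map _ ≫ Y.presheaf.map _
  rw [← Functor.map_comp]
  rfl

end sheafmap

end Groth.Agent.Lib.Helper11.LRSFac
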