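import Groth.Prelude.Def_LiftSq

/-!
# Unique lifting against `j` is stable under composition (helper11)
-/

set_option autoImplicit false

universe v₆ u₆ v₅ u₅ v₄ u₄ v₃ u₃ v₂ u₂ v u

open CategoryTheory

namespace Groth.Agent.Lib.Helper11.LiftSqComp

open LiftSq

variable {C : Type u} [Category.{v} C]
  {𝒜 : BasedCategory.{v₂, u₂} C} {ℬ : BasedCategory.{v₃, u₃} C}
  {𝒳 : BasedCategory.{v₄, u₄} C} {𝒴 : BasedCategory.{v₅, u₅} C} {𝒵 : BasedCategory.{v₆, u₆} C}

/-- Componentwise extensionality for 2-morphisms over `C`. -/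
theorem hom_ext' {F G : 𝒜 ⥤ᵇ 𝒳} {α β : F ⟶ G}
    (h : ∀ x : 𝒜.obj, α.toNatTrans.app x = β.toNatTrans.app x) : α = β := by
  apply BasedNatTrans.homCategory.ext; ext x; exact h x

theorem app_congr {F G : 𝒜 ⥤ᵇ 𝒳} {α β : F ⟶ G} (h : α = β) (x : 𝒜.obj) :
    α.toNatTrans.app x = β.toNatTrans.app x := by rw [h]

theorem cancel_aux {D : Type*} [Category D] {X Y : D} {t : X ⟶ Y} {t' : Y ⟶ X} {w : X ⟶ Y}
    (h : t' ≫ w = 𝟙 Y) (e : t ≫ t' = 𝟙 X) : w = t := by
  calc w = (t ≫ t') ≫ w := by rw [e, Category.id_comp]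
    _ = t := by rw [Category.assoc, h, Category.comp_id]

/-- Right whiskering of an isomorphism. -/
def whiskerRightIso {F G : 𝒜 ⥤ᵇ 𝒳} (α : F ≅ G) (f : 𝒳 ⥤ᵇ 𝒴) :
    BasedFunctor.comp F f ≅ BasedFunctor.comp G f where
  hom := BasedCategory.whiskerRight α.hom f
  inv := BasedCategory.whiskerRight α.inv f
  hom_inv_id := by rw [← whiskerRight_comp', α.hom_inv_id, whiskerRight_id']
  inv_hom_id := by rw [← whiskerRight_comp', α.inv_hom_id, whiskerRight_id']

section

variable {j : 𝒜 ⥤ᵇ ℬ} {f : 𝒳 ⥤ᵇ 𝒴} {g : 𝒴 ⥤ᵇ 𝒵} (sq : Sq j (BasedFunctor.comp f g))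

/-- The square against `g` obtained from a square against `f ⋙ g`. -/
def sqG : Sq j g := ⟨BasedFunctor.comp sq.top f, sq.bot, sq.iso⟩

variable {sq}

/-- A lift against `f ⋙ g` gives a lift against `g`. -/
def toG (d : sq.Lift) : (sqG sq).Lift where
  fn := BasedFunctor.comp d.fn f
  isoTop := whiskerRightIso d.isoTop f
  isoBot := d.isoBot
  w := by
    apply hom_ext'; intro x
    exact app_congr d.w x

/-- A morphism of lifts against `f ⋙ g` gives a morphism of lifts against `g`. -/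
def toGHom {d d' : sq.Lift} (θ : d ⟶ d') : toG d ⟶ toG d' where
  hom := BasedCategory.whiskerRight θ.hom f
  w_top := by
    apply hom_ext'; intro x
    have h := app_congr θ.w_top x
    change θ.hom.toNatTrans.app (j.obj x) ≫ d'.isoTop.hom.toNatTrans.app x =
      d.isoTop.hom.toNatTrans.app x at h
    exact (f.toFunctor.map_comp _ _).symm.trans (congrArg f.toFunctor.map h)
  w_bot := by
    apply hom_ext'; intro x
    exact app_congr θ.w_bot x

end

theorem liftsUniquely_comp (j : 𝒜 ⥤ᵇ ℬ) (f : 𝒳 ⥤ᵇ 𝒴) (g : 𝒴 ⥤ᵇ 𝒵)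
    (hf : LiftsUniquely j f) (hg : LiftsUniquely j g) :
    LiftsUniquely j (BasedFunctor.comp f g) := by
  intro sq
  obtain ⟨⟨dg⟩, ug⟩ := hg (sqG sq)
  refine ⟨?_, ?_⟩
  · -- existence
    let sqf : Sq j f := ⟨sq.top, dg.fn, dg.isoTop⟩
    obtain ⟨⟨df⟩, -⟩ := hf sqf
    refine ⟨{ fn := df.fn
              isoTop := df.isoTop
              isoBot := dg.isoBot ≪≫ whiskerRightIso df.isoBot g
              w := ?_ }⟩
    apply hom_ext'; intro x
    have h1 := app_congr dg.w x
    have h2 := app_congr df.w x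
    change dg.isoBot.hom.toNatTrans.app (j.obj x) ≫
      g.toFunctor.map (dg.isoTop.hom.toNatTrans.app x) = sq.iso.hom.toNatTrans.app x at h1
    change df.isoBot.hom.toNatTrans.app (j.obj x) ≫
      f.toFunctor.map (df.isoTop.hom.toNatTrans.app x) = dg.isoTop.hom.toNatTrans.app x at h2
    exact (Category.assoc _ _ _).trans
      ((congrArg (dg.isoBot.hom.toNatTrans.app (j.obj x) ≫ ·)
        ((g.toFunctor.map_comp _ _).symm.trans (congrArg g.toFunctor.map h2))).trans h1)
  · -- uniqueness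
    intro d d'
    obtain ⟨u1⟩ := ug (toG d) (toG d')
    obtain ⟨u2⟩ := ug (toG d') (toG d)
    obtain ⟨u3⟩ := ug (toG d) (toG d)
    obtain ⟨u4⟩ := ug (toG d') (toG d')
    let θ : toG d ⟶ toG d' := u1.default
    let θ' : toG d' ⟶ toG d := u2.default
    have e1 : θ ≫ θ' = 𝟙 _ := (u3.uniq _).trans (u3.uniq _).symm
    have e2 : θ' ≫ θ = 𝟙 _ := (u4.uniq _).trans (u4.uniq _).symm
    have e1' : θ.hom ≫ θ'.hom = 𝟙 _ := congrArg Sq.Lift.Hom.hom e1
    have e2' : θ'.hom ≫ θ.hom = 𝟙 _ := congrArg Sq.Lift.Hom.hom e2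
    let sqf' : Sq j f := ⟨sq.top, BasedFunctor.comp d'.fn f, whiskerRightIso d'.isoTop f⟩
    let a' : sqf'.Lift :=
      { fn := d'.fn
        isoTop := d'.isoTop
        isoBot := Iso.refl _
        w := by
          apply hom_ext'; intro x
          change 𝟙 _ ≫ f.toFunctor.map (d'.isoTop.hom.toNatTrans.app x) =
            f.toFunctor.map (d'.isoTop.hom.toNatTrans.app x)
          exact Category.id_comp _ }
    let a : sqf'.Lift :=
      { fn := d.fn
        isoTop := d.isoTop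
        isoBot := ⟨θ'.hom, θ.hom, e2', e1'⟩
        w := θ'.w_top }
    obtain ⟨ua⟩ := (hf sqf').2 a a'
    let φ : a ⟶ a' := ua.default
    have hφ : ∀ x : ℬ.obj, f.toFunctor.map (φ.hom.toNatTrans.app x) = θ.hom.toNatTrans.app x := by
      intro x
      exact cancel_aux (app_congr φ.w_bot x) (app_congr e1' x)
    refine ⟨⟨⟨{ hom := φ.hom, w_top := φ.w_top, w_bot := ?_ }⟩, ?_⟩⟩
    · have h := θ.w_bot
      apply hom_ext'; intro x
      have h' := app_congr h x
      change d.isoBot.hom.toNatTrans.app x ≫ g.toFunctor.map (θ.hom.toNatTrans.app x) =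
        d'.isoBot.hom.toNatTrans.app x at h'
      change d.isoBot.hom.toNatTrans.app x ≫
        g.toFunctor.map (f.toFunctor.map (φ.hom.toNatTrans.app x)) = d'.isoBot.hom.toNatTrans.app x
      exact (congrArg (fun t => d.isoBot.hom.toNatTrans.app x ≫ g.toFunctor.map t) (hφ x)).trans h'
    · intro ψ
      have h1 : toGHom ψ = θ := u1.uniq _
      have h1' : BasedCategory.whiskerRight ψ.hom f = θ.hom := congrArg Sq.Lift.Hom.hom h1
      let ψ' : a ⟶ a' :=
        { hom := ψ.hom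
          w_top := ψ.w_top
          w_bot := by
            apply hom_ext'; intro x
            have h3 := app_congr h1' x
            have h4 := app_congr e2' x
            exact (congrArg (θ'.hom.toNatTrans.app x ≫ ·) h3).trans h4 }
      have h2 : ψ' = φ := ua.uniq _
      have h3 : ψ'.hom = φ.hom := congrArg Sq.Lift.Hom.hom h2
      apply Sq.Lift.hom_ext
      exact h3

end Groth.Agent.Lib.Helper11.LiftSqComp
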