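import Groth.Agent.Lib.Helper24.Lim8DescendLqf
import Groth.Agent.S0402
import Groth.Agent.S9358

/-!
# Descent of bounds on the fibre dimension along cofiltered limits (helper11)

Uses helper24's `Lim8.Descends` framework, Chevalley's semicontinuity (S0402) and the base change
invariance of the local fibre dimension (S9358).
-/

set_option autoImplicit false

universe u

open CategoryTheory CategoryTheory.Limits AlgebraicGeometry

namespace Groth.Agent.Lib.Helper11.LimFibreDim

open Groth.Agent.Lib.Helper24.Lim8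

/-- The morphism property "locally of finite type with all local fibre dimensions `≤ d`". -/
def FibreDimLE (d : ℕ) : MorphismProperty Scheme.{u} :=
  fun _ _ f => LocallyOfFiniteType f ∧ ∀ x, FlatMor.fibreDimAt f x ≤ d

lemma fibreDimAt_of_isPullback {X S X' S' : Scheme.{u}} {f : X ⟶ S} [LocallyOfFiniteType f]
    {g : S' ⟶ S} {g' : X' ⟶ X} {f' : X' ⟶ S'} (hsq : IsPullback g' f' f g) (x' : X') :
    FlatMor.fibreDimAt f' x' = FlatMor.fibreDimAt f (g' x') :=
  (Groth.Agent.S9358.result f g g' f' hsq 0).1 x'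

instance (d : ℕ) : (FibreDimLE.{u} d).RespectsIso := by
  apply MorphismProperty.RespectsIso.mk
  · intro X Y Z e f ⟨h1, h2⟩
    have := h1
    refine ⟨inferInstance, fun x => ?_⟩
    have hsq : IsPullback e.hom (e.hom ≫ f) f (𝟙 Z) :=
      IsPullback.of_horiz_isIso ⟨by simp⟩
    rw [fibreDimAt_of_isPullback hsq]
    exact h2 _
  · intro X Y Z e f ⟨h1, h2⟩
    have := h1
    refine ⟨inferInstance, fun x => ?_⟩
    have hsq : IsPullback (𝟙 X) (f ≫ e.hom) f e.inv :=
      IsPullback.of_horiz_isIso ⟨by simp⟩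
    rw [fibreDimAt_of_isPullback hsq]
    exact h2 _

section main

variable {I : Type u} [Category.{u} I] (D : I ⥤ Scheme.{u}) (c : Cone D) (hc : IsLimit c)
variable [IsCofiltered I] [∀ {i j} (f : i ⟶ j), IsAffineHom (D.map f)]

include hc in
/-- Fibre dimension `≤ d` descends (`X₀` quasi-compact, `f₀` locally of finite type). -/
lemma descends_fibreDimLE (i₀ : I) {X₀ Y₀ : Scheme.{u}} (f₀ : X₀ ⟶ Y₀)
    (g₀ : Y₀ ⟶ D.obj i₀) [CompactSpace X₀] [LocallyOfFiniteType f₀] (d : ℕ) :
    Descends D c (FibreDimLE d) i₀ f₀ g₀ := by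
  intro hP
  have hopen : IsOpen {x : X₀ | FlatMor.fibreDimAt f₀ x ≤ d} := Groth.Agent.S0402.result f₀ d
  have hgood : IsGood ({x : X₀ | FlatMor.fibreDimAt f₀ x ≤ d}ᶜ) := by
    have := (IsGood.of_isCompact_isOpen (isCompact_univ (X := X₀)) isOpen_univ).inter_isClosed
      hopen.isClosed_compl
    rwa [Set.univ_inter] at this
  obtain ⟨j, φ, hj⟩ := exists_preimage_snd_eq_empty D c hc i₀ (f₀ ≫ g₀) _ hgood (by
    rw [Set.preimage_compl, Set.compl_empty_iff, Set.eq_univ_iff_forall]
    intro x'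
    have := fibreDimAt_of_isPullback (isPullback_bcMap (c.π.app i₀) f₀ g₀) x'
    simp only [Set.mem_preimage, Set.mem_ofPred_eq]
    rw [← this]
    exact hP.2 x')
  refine ⟨j, φ, ?_, fun x => ?_⟩
  · exact bcMap_of_isStableUnderBaseChange (P := @LocallyOfFiniteType) _ _ _ inferInstance
  · rw [fibreDimAt_of_isPullback (isPullback_bcMap (D.map φ) f₀ g₀) x]
    rw [Set.preimage_compl, Set.compl_empty_iff, Set.eq_univ_iff_forall] at hj
    exact hj x

end main

end Groth.Agent.Lib.Helper11.LimFibreDim
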