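import Groth.Agent.Lib.Helper11.LimFibreDim
import Groth.Agent.S9355
import Groth.Agent.Lib.Helper73.FlatRelDim3

/-!
# Descent of "relative dimension `d`" along cofiltered limits (helper11)

`Cyc.HasRelDim f d` is the same as "local fibre dimension `= d` at every point" for `f` locally of
finite type (via helper73's description of both in terms of residue transcendence degrees of the
maximal points of the fibres); the locus where the local fibre dimension is `d` is constructible for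
`f₀` locally of finite presentation (Chevalley S0402 + retrocompactness S9355).
-/

set_option autoImplicit false

universe u

open CategoryTheory CategoryTheory.Limits AlgebraicGeometry

namespace Groth.Agent.Lib.Helper11.LimFibreDim

open Groth.Agent.Lib.Helper24.Lim8 Groth.Agent.Lib.Helper73.FlatRelDim
  Groth.Agent.Lib.Helper73.SchemeDim

/-- The local fibre dimension of a morphism locally of finite type is a natural number. -/
lemma exists_nat_fibreDimAt {X Y : Scheme.{u}} (f : X ⟶ Y) [LocallyOfFiniteType f] (x : X) :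
    ∃ n : ℕ, FlatMor.fibreDimAt f x = n := by
  obtain ⟨ζ, n, -, -, -, -, h⟩ := exists_maximal_in_fibre_trdeg_eq_fibreDimAt f x
  exact ⟨n, h⟩

/-- Relative dimension `d` means local fibre dimension `d` at every point. -/
theorem hasRelDim_iff_fibreDimAt {X Y : Scheme.{u}} (f : X ⟶ Y) [LocallyOfFiniteType f] (d : ℕ) :
    Cyc.HasRelDim f d ↔ ∀ x, FlatMor.fibreDimAt f x = d := by
  rw [hasRelDim_iff]
  constructor
  · intro h x
    obtain ⟨ζ, n, hζx, hζf, hζmax, hn, hF⟩ := exists_maximal_in_fibre_trdeg_eq_fibreDimAt f x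
    rw [hF]
    have h1 := h ζ hζmax
    rw [hn] at h1
    have : n = d := by exact_mod_cast h1
    rw [this]
  · intro h ζ hζmax
    obtain ⟨ζ', n, hζ'ζ, hζ'f, hζ'max, hn, hF⟩ := exists_maximal_in_fibre_trdeg_eq_fibreDimAt f ζ
    have e : ζ' = ζ := hζmax ζ' hζ'ζ hζ'f
    subst e
    rw [hn]
    have h1 := h ζ'
    rw [hF] at h1
    have : n = d := by exact_mod_cast h1
    rw [this]

/-- The morphism property "locally of finite type with all local fibre dimensions `= d`". -/
def FibreDimEq (d : ℕ) : MorphismProperty Scheme.{u} :=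
  fun _ _ f => LocallyOfFiniteType f ∧ ∀ x, FlatMor.fibreDimAt f x = d

instance (d : ℕ) : (FibreDimEq.{u} d).RespectsIso := by
  apply MorphismProperty.RespectsIso.mk
  · intro X Y Z e f ⟨h1, h2⟩
    have := h1
    refine ⟨inferInstance, fun x => ?_⟩
    have hsq : IsPullback e.hom (e.hom ≫ f) f (𝟙 Z) :=
      IsPullback.of_horiz_isIso ⟨by simp⟩
    rw [fibreDimAt_of_isPullback hsq]
    exact h2 _
  · intro X Y Z e f ⟨h1, h2⟩
    have := h1
    refine ⟨inferInstance, fun x => ?_⟩
    have hsq : IsPullback (𝟙 X) (f ≫ e.hom) f e.inv :=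
      IsPullback.of_horiz_isIso ⟨by simp⟩
    rw [fibreDimAt_of_isPullback hsq]
    exact h2 _

lemma isGood_fibreDimAt_le {X₀ Y₀ : Scheme.{u}} (f₀ : X₀ ⟶ Y₀) [CompactSpace X₀]
    [LocallyOfFinitePresentation f₀] (e : ℕ) :
    IsGood {x : X₀ | FlatMor.fibreDimAt f₀ x ≤ e} := by
  have hopen : IsOpen {x : X₀ | FlatMor.fibreDimAt f₀ x ≤ e} := Groth.Agent.S0402.result f₀ e
  have hretro : IsRetrocompact {x : X₀ | FlatMor.fibreDimAt f₀ x ≤ e} :=
    Groth.Agent.S9355.result f₀ e
  have hcomp := hretro isCompact_univ isOpen_univ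
  rw [Set.inter_univ] at hcomp
  exact IsGood.of_isCompact_isOpen hcomp hopen

lemma isGood_fibreDimAt_not_le {X₀ Y₀ : Scheme.{u}} (f₀ : X₀ ⟶ Y₀) [CompactSpace X₀]
    [LocallyOfFiniteType f₀] (e : ℕ) :
    IsGood ({x : X₀ | FlatMor.fibreDimAt f₀ x ≤ e}ᶜ) := by
  have hopen : IsOpen {x : X₀ | FlatMor.fibreDimAt f₀ x ≤ e} := Groth.Agent.S0402.result f₀ e
  have := (IsGood.of_isCompact_isOpen (isCompact_univ (X := X₀)) isOpen_univ).inter_isClosed
    hopen.isClosed_compl
  rwa [Set.univ_inter] at this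

lemma isGood_fibreDimAt_ne {X₀ Y₀ : Scheme.{u}} (f₀ : X₀ ⟶ Y₀) [CompactSpace X₀]
    [LocallyOfFinitePresentation f₀] (d : ℕ) :
    IsGood ({x : X₀ | FlatMor.fibreDimAt f₀ x = d}ᶜ) := by
  rcases d with _ | e
  · have : ({x : X₀ | FlatMor.fibreDimAt f₀ x = (0 : ℕ)}ᶜ) =
        {x : X₀ | FlatMor.fibreDimAt f₀ x ≤ (0 : ℕ)}ᶜ := by
      ext x
      obtain ⟨n, hn⟩ := exists_nat_fibreDimAt f₀ x
      simp only [Set.mem_compl_iff, Set.mem_ofPred_eq, hn]
      norm_cast
      omega
    rw [this]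
    exact isGood_fibreDimAt_not_le f₀ 0
  · have : ({x : X₀ | FlatMor.fibreDimAt f₀ x = ((e + 1 : ℕ))}ᶜ) =
        {x : X₀ | FlatMor.fibreDimAt f₀ x ≤ ((e + 1 : ℕ))}ᶜ ∪
          {x : X₀ | FlatMor.fibreDimAt f₀ x ≤ (e : ℕ)} := by
      ext x
      obtain ⟨n, hn⟩ := exists_nat_fibreDimAt f₀ x
      simp only [Set.mem_compl_iff, Set.mem_ofPred_eq, Set.mem_union, hn]
      norm_cast
      omega
    rw [this]
    exact .union _ _ (isGood_fibreDimAt_not_le f₀ (e + 1)) (isGood_fibreDimAt_le f₀ e)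

section main

variable {I : Type u} [Category.{u} I] (D : I ⥤ Scheme.{u}) (c : Cone D) (hc : IsLimit c)
variable [IsCofiltered I] [∀ {i j} (f : i ⟶ j), IsAffineHom (D.map f)]

include hc in
/-- Fibre dimension `= d` descends (`X₀` quasi-compact, `f₀` locally of finite presentation). -/
lemma descends_fibreDimEq (i₀ : I) {X₀ Y₀ : Scheme.{u}} (f₀ : X₀ ⟶ Y₀)
    (g₀ : Y₀ ⟶ D.obj i₀) [CompactSpace X₀] [LocallyOfFinitePresentation f₀] (d : ℕ) :
    Descends D c (FibreDimEq d) i₀ f₀ g₀ := by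
  intro hP
  obtain ⟨j, φ, hj⟩ := exists_preimage_snd_eq_empty D c hc i₀ (f₀ ≫ g₀) _
    (isGood_fibreDimAt_ne f₀ d) (by
    rw [Set.preimage_compl, Set.compl_empty_iff, Set.eq_univ_iff_forall]
    intro x'
    have := fibreDimAt_of_isPullback (isPullback_bcMap (c.π.app i₀) f₀ g₀) x'
    simp only [Set.mem_preimage, Set.mem_ofPred_eq]
    rw [← this]
    exact hP.2 x')
  refine ⟨j, φ, ?_, fun x => ?_⟩
  · exact bcMap_of_isStableUnderBaseChange (P := @LocallyOfFiniteType) _ _ _ inferInstance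
  · rw [fibreDimAt_of_isPullback (isPullback_bcMap (D.map φ) f₀ g₀) x]
    rw [Set.preimage_compl, Set.compl_empty_iff, Set.eq_univ_iff_forall] at hj
    exact hj x

end main

end Groth.Agent.Lib.Helper11.LimFibreDim
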