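import Mathlib

/-!
# Logarithmic connections on the trivial bundle over the affine line (helper11)

Elementary pole-order arguments used by S15502 / S15503.
-/

open Polynomial

namespace Groth.Agent.Lib.Helper11.LogConn

universe u
variable {R : Type u} [CommRing R] {d r : ℕ}

section evalTheta
variable (θ : Fin r → R) (Θ : R[X]) (hΘ : Θ = ∏ i, (X - C (θ i)))
include hΘ

lemma eval_Theta (i : Fin r) : Θ.eval (θ i) = 0 := by
  subst hΘ
  rw [eval_prod]
  exact Finset.prod_eq_zero (Finset.mem_univ i) (by simp)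

lemma eval_derivative_Theta (i : Fin r) :
    (derivative Θ).eval (θ i) = ∏ k ∈ Finset.univ.erase i, (θ i - θ k) := by
  subst hΘ
  rw [derivative_prod_finset]
  simp only [derivative_sub, derivative_X, derivative_C, sub_zero, mul_one]
  rw [eval_finsetSum, Finset.sum_eq_single i]
  · simp [eval_prod]
  · intro k _ hk
    rw [eval_prod]
    exact Finset.prod_eq_zero (Finset.mem_erase.2 ⟨hk.symm, Finset.mem_univ i⟩) (by simp)
  · simp

lemma Theta_monic : Θ.Monic := by
  subst hΘ
  exact monic_prod_of_monic _ _ fun i _ => monic_X_sub_C (θ i)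

lemma Theta_dvd_of_eval (hθ : ∀ i k, i ≠ k → IsUnit (θ i - θ k)) (p : R[X])
    (hp : ∀ i, p.eval (θ i) = 0) : Θ ∣ p := by
  subst hΘ
  apply Finset.prod_dvd_of_coprime
  · intro i _ k _ hik
    exact isCoprime_X_sub_C_of_isUnit_sub (hθ i k hik)
  · intro i _
    exact dvd_iff_isRoot.2 (hp i)

end evalTheta


section evalD0
variable (θ : Fin r → R) (Θ : R[X]) (hΘ : Θ = ∏ i, (X - C (θ i)))
  (D₀ : (Fin d → R[X]) →+ (Fin d → R[X]))
  (hD₀ : ∀ (p : R[X]) (v : Fin d → R[X]),
      D₀ (p • v) = (Θ * Polynomial.derivative p) • v + p • D₀ v)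
  (Res : Fin r → ((Fin d → R) →ₗ[R] (Fin d → R)))
  (hRes : ∀ (i : Fin r) (m : Fin d → R) (j : Fin d),
      (D₀ (fun j => Polynomial.C (m j)) j).eval (θ i) =
        (∏ k ∈ Finset.univ.erase i, (θ i - θ k)) * Res i m j)
include hΘ hD₀ hRes

/-- Evaluation at `θ i` of `D₀ v` is `c_i • Res_i (v(θ_i))`. -/
lemma eval_D0 (i : Fin r) (v : Fin d → R[X]) (j : Fin d) :
    (D₀ v j).eval (θ i) =
      (∏ k ∈ Finset.univ.erase i, (θ i - θ k)) * Res i (fun j' => (v j').eval (θ i)) j := by
  -- both sides are additive in `v`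
  let ev : (Fin d → R[X]) →+ (Fin d → R) :=
    { toFun := fun v j => (v j).eval (θ i)
      map_zero' := by ext; simp
      map_add' := by intros; ext; simp }
  let c : R := ∏ k ∈ Finset.univ.erase i, (θ i - θ k)
  let L : (Fin d → R[X]) →+ (Fin d → R) := ev.comp D₀
  let Rr : (Fin d → R[X]) →+ (Fin d → R) :=
    ((c • (Res i)).toAddMonoidHom).comp ev
  have key : L = Rr := by
    apply AddMonoidHom.functions_ext
    intro j₀ x
    have h2 : L.comp (AddMonoidHom.single (fun _ : Fin d => R[X]) j₀) =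
        Rr.comp (AddMonoidHom.single (fun _ : Fin d => R[X]) j₀) := by
      apply Polynomial.addHom_ext
      intro n a
      have e : (Pi.single j₀ (monomial n a) : Fin d → R[X]) =
          (X ^ n : R[X]) • (fun j' => C ((Pi.single j₀ a : Fin d → R) j')) := by
        ext j' : 1
        by_cases h : j' = j₀
        · subst h
          simp only [Pi.single_eq_same, Pi.smul_apply, smul_eq_mul]
          rw [← C_mul_X_pow_eq_monomial, mul_comm]
        · simp [h]
      simp only [AddMonoidHom.comp_apply, AddMonoidHom.single_apply]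
      rw [e]
      ext j
      simp only [L, Rr, ev, AddMonoidHom.comp_apply, AddMonoidHom.coe_mk, ZeroHom.coe_mk]
      rw [hD₀]
      simp only [Pi.add_apply, Pi.smul_apply, smul_eq_mul, eval_add, eval_mul,
        eval_Theta θ Θ hΘ i, zero_mul, zero_add, hRes, eval_pow, eval_X, eval_C]
      have e2 : (fun j' => θ i ^ n * (Pi.single j₀ a : Fin d → R) j') =
          (θ i ^ n) • (Pi.single j₀ a : Fin d → R) := by
        ext; simp
      rw [e2]
      simp only [LinearMap.toAddMonoidHom_coe, LinearMap.smul_apply, map_smul, Pi.smul_apply,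
        smul_eq_mul, c]
    exact DFunLike.congr_fun h2 x
  have := congrFun (DFunLike.congr_fun key v) j
  simpa [L, Rr, ev, c] using this

end evalD0


section charpoly

/-- If the characteristic polynomial of `φ` takes a unit value at `a`, then `φ - a` is invertible
(Cayley–Hamilton). -/
lemma isUnit_sub_of_charpoly (φ : Module.End R (Fin d → R)) (a : R)
    (ha : IsUnit (φ.charpoly.eval a)) :
    IsUnit (φ - algebraMap R (Module.End R (Fin d → R)) a) := by
  set P := φ.charpoly with hP
  have h1 : C (P.eval a) + (X - C a) * (P /ₘ (X - C a)) = P := by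
    rw [← modByMonic_X_sub_C_eq_C_eval]; exact modByMonic_add_div P _
  have h2 := congrArg (aeval φ) h1
  rw [hP, LinearMap.aeval_self_charpoly] at h2
  rw [← hP] at h2
  simp only [map_add, map_mul, map_sub, aeval_C, aeval_X] at h2
  set Q := aeval φ (P /ₘ (X - C a)) with hQ
  have hcomm : Q * (φ - algebraMap R _ a) = (φ - algebraMap R _ a) * Q := by
    have e1 : (φ - algebraMap R (Module.End R (Fin d → R)) a) = aeval φ (X - C a) := by simp
    rw [e1, hQ, ← map_mul, ← map_mul, mul_comm]
  obtain ⟨u, hu⟩ := ha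
  have h3 : (φ - algebraMap R _ a) * Q = - algebraMap R _ (u : R) := by
    rw [hu]; exact (eq_neg_of_add_eq_zero_right h2)
  have h4 : (-((u⁻¹ : Rˣ) : R)) • (- algebraMap R (Module.End R (Fin d → R)) (u : R)) = 1 := by
    rw [Algebra.algebraMap_eq_smul_one, smul_neg, neg_smul, neg_neg, smul_smul, Units.inv_mul,
      one_smul]
  refine ⟨⟨φ - algebraMap R _ a, (-((u⁻¹ : Rˣ) : R)) • Q, ?_, ?_⟩, rfl⟩
  · rw [mul_smul_comm, h3, h4]
  · rw [smul_mul_assoc, hcomm, h3, h4]

end charpoly


section complexCoeff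
variable [Algebra ℂ R] [Nontrivial R]

/-- The hypothesis on the residues makes `Res - N` bijective for `N ≥ 1`. -/
lemma bijective_sub_of_charpoly (φ : (Fin d → R) →ₗ[R] (Fin d → R))
    (hχ : ∃ χ : ℂ[X], φ.charpoly = χ.map (algebraMap ℂ R) ∧
      ∀ n : ℤ, n ≠ 0 → χ.eval (n : ℂ) ≠ 0) (N : ℕ) (hN : 1 ≤ N) :
    Function.Bijective (fun x : Fin d → R => φ x - (N : R) • x) := by
  obtain ⟨χ, h1, h2⟩ := hχ
  have hu : IsUnit (φ.charpoly.eval (N : R)) := by
    rw [h1, show ((N : ℕ) : R) = algebraMap ℂ R (N : ℂ) by simp, Polynomial.eval_map,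
      Polynomial.eval₂_at_apply]
    apply IsUnit.map
    rw [isUnit_iff_ne_zero]
    have := h2 (N : ℤ) (by omega)
    simpa using this
  have h3 := isUnit_sub_of_charpoly φ (N : R) hu
  rw [Module.End.isUnit_iff] at h3
  convert h3 using 1
  ext x j
  simp [Module.algebraMap_end_apply]

end complexCoeff

section frac
variable {L : Type*} [CommRing L] [Algebra R[X] L] (Θ : R[X])
  (D₀ : (Fin d → R[X]) →+ (Fin d → R[X]))
  (D : (Fin d → L) →+ (Fin d → L))
  (hD : ∀ (p : R[X]) (w : Fin d → L), D (p • w) = (Θ * derivative p) • w + p • D w)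
  (hDD₀ : ∀ v : Fin d → R[X], D (fun j => algebraMap R[X] L (v j)) =
      fun j => algebraMap R[X] L (D₀ v j))
include hD hDD₀

lemma D_frac (N : ℕ) (f : Fin d → L) (v : Fin d → R[X])
    (hfv : (Θ ^ (N + 1)) • f = fun j => algebraMap R[X] L (v j)) :
    (fun j => algebraMap R[X] L (D₀ v j)) =
      (fun j => algebraMap R[X] L ((C ((N + 1 : ℕ) : R) * derivative Θ) * v j))
        + (Θ ^ (N + 1)) • D f := by
  rw [← hDD₀, ← hfv, hD, derivative_pow_succ]
  congr 1
  have : (Θ * (C ((N : R) + 1) * Θ ^ N * derivative Θ)) • f =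
      (C ((N + 1 : ℕ) : R) * derivative Θ) • ((Θ ^ (N + 1)) • f) := by
    rw [smul_smul]; congr 1; push_cast; ring
  rw [this, hfv]
  ext j
  simp [Algebra.smul_def]

end frac

end Groth.Agent.Lib.Helper11.LogConn
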