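import Groth.Agent.Lib.Helper11.LogConn

/-!
# Lagrange interpolation at points with unit differences (helper11)
-/

open Polynomial

namespace Groth.Agent.Lib.Helper11.LogConn

universe u
variable {R : Type u} [CommRing R] {d r : ℕ}

lemma exists_interp (θ : Fin r → R) (hθ : ∀ i k, i ≠ k → IsUnit (θ i - θ k)) (m : Fin r → R) :
    ∃ p : R[X], ∀ i, p.eval (θ i) = m i := by
  classical
  have hc : ∀ i, IsUnit (∏ k ∈ Finset.univ.erase i, (θ i - θ k)) := fun i =>
    IsUnit.prod_iff.2 (fun k hk => hθ i k (Finset.ne_of_mem_erase hk).symm)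
  choose c hc' using hc
  refine ⟨∑ i, C (m i * ((c i)⁻¹ : Rˣ)) * ∏ k ∈ Finset.univ.erase i, (X - C (θ k)), fun l => ?_⟩
  rw [eval_finsetSum, Finset.sum_eq_single l]
  · simp only [eval_mul, eval_C, eval_prod, eval_sub, eval_X]
    rw [← hc' l, mul_assoc, Units.inv_mul, mul_one]
  · intro i _ hil
    rw [eval_mul, eval_prod]
    rw [Finset.prod_eq_zero (Finset.mem_erase.2 ⟨Ne.symm hil, Finset.mem_univ l⟩) (by simp), mul_zero]
  · simp

lemma exists_interp_vec (θ : Fin r → R) (hθ : ∀ i k, i ≠ k → IsUnit (θ i - θ k))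
    (m : Fin r → Fin d → R) :
    ∃ u : Fin d → R[X], ∀ i j, (u j).eval (θ i) = m i j := by
  have := fun j => exists_interp θ hθ (fun i => m i j)
  choose u hu using this
  exact ⟨u, fun i j => hu j i⟩

end Groth.Agent.Lib.Helper11.LogConn
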