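import Groth.Prelude.Def_Models

/-!
Basic lemmas on numerical types (helper11).
-/

set_option autoImplicit false
open Finset

namespace Groth.Agent.Lib.Helper11

open Models Models.NumericalType

variable {n : ℕ} (T : Models.NumericalType n)

theorem row_sum (i : Fin n) : ∑ j, T.a i j * T.m j = 0 := by
  have h := congrFun T.mulVec_m i
  simpa [Matrix.mulVec, dotProduct] using h

theorem a_symm (i j : Fin n) : T.a i j = T.a j i := by
  have := T.symm
  exact (Matrix.IsSymm.apply this i j).symm

theorem diag_mul (i : Fin n) :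
    T.a i i * T.m i = - ∑ j ∈ univ.erase i, T.a i j * T.m j := by
  have h := row_sum T i
  rw [← Finset.add_sum_erase univ _ (mem_univ i)] at h
  linarith

theorem offdiag_term_nonneg (i j : Fin n) (hij : j ≠ i) : 0 ≤ T.a i j * T.m j :=
  mul_nonneg (T.offDiag_nonneg i j hij.symm) (T.m_pos j).le

theorem offdiag_le (i j : Fin n) (hij : j ≠ i) :
    T.a i j * T.m j ≤ - (T.a i i * T.m i) := by
  rw [diag_mul T i, neg_neg]
  exact Finset.single_le_sum (f := fun j => T.a i j * T.m j)
    (fun k hk => offdiag_term_nonneg T i k (Finset.ne_of_mem_erase hk))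
    (Finset.mem_erase.2 ⟨hij, mem_univ j⟩)

theorem diag_nonpos (i : Fin n) : T.a i i ≤ 0 := by
  have h : T.a i i * T.m i ≤ 0 := by
    rw [diag_mul T i, neg_nonpos]
    exact Finset.sum_nonneg fun k hk => offdiag_term_nonneg T i k (Finset.ne_of_mem_erase hk)
  by_contra hc
  rw [not_le] at hc
  have := mul_pos hc (T.m_pos i)
  linarith

theorem ne_of_pos {i j : Fin n} (h : 0 < T.a i j) : i ≠ j := by
  rintro rfl
  have := diag_nonpos T i
  linarith

/-- every index has a neighbour when `n > 1` -/
theorem exists_neighbour (hn : 1 < n) (i : Fin n) : ∃ j, j ≠ i ∧ 0 < T.a i j := by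
  have hne : ({i} : Finset (Fin n)) ≠ univ := by
    intro h
    have hc : ({i} : Finset (Fin n)).card = (univ : Finset (Fin n)).card := by rw [h]
    simp at hc
    omega
  obtain ⟨i', hi', j, hj, hne'⟩ := T.connected {i} (singleton_nonempty i) hne
  rw [mem_singleton] at hi'
  subst hi'
  have hji : j ≠ i' := by
    intro h; apply hj; rw [h]; exact mem_singleton_self _
  refine ⟨j, hji, lt_of_le_of_ne (T.offDiag_nonneg i' j hji.symm) hne'.symm⟩

theorem diag_neg (hn : 1 < n) (i : Fin n) : T.a i i < 0 := by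
  obtain ⟨j, hji, hpos⟩ := exists_neighbour T hn i
  have h1 := offdiag_le T i j hji
  have h2 : 0 < T.a i j * T.m j := mul_pos hpos (T.m_pos j)
  by_contra hc
  rw [not_lt] at hc
  have := mul_nonneg hc (T.m_pos i).le
  linarith

theorem w_le_of_pos {i j : Fin n} (h : 0 < T.a i j) : T.w i ≤ T.a i j :=
  Int.le_of_dvd h (T.w_dvd i j)

/-- For a minimal numerical type with more than one index, each local term of twice the genus
formula is non-negative. -/
theorem local_term_nonneg (hmin : T.IsMinimal) (hn : 1 < n) (i : Fin n) :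
    0 ≤ 2 * T.w i * (T.g i - 1) - T.a i i := by
  obtain ⟨c, hc⟩ := T.w_dvd i i
  have hneg := diag_neg T hn i
  have hw := T.w_pos i
  have hg := T.g_nonneg i
  have hc_neg : c < 0 := by
    by_contra h
    rw [not_lt] at h
    have := mul_nonneg hw.le h
    linarith
  rcases eq_or_lt_of_le hg with h0 | hpos
  · -- g i = 0
    have hc1 : c ≠ -1 := by
      intro h
      apply hmin i
      refine ⟨h0.symm, ?_⟩
      rw [hc, h]; ring
    have hc2 : c ≤ -2 := by omega
    rw [← h0, hc]
    nlinarith
  · have : 1 ≤ T.g i := hpos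
    nlinarith

theorem two_mul_genus_ge (T : Models.NumericalType n) :
    2 * (∑ i, T.m i * T.w i * (T.g i - 1)) - (∑ i, T.m i * T.a i i) ≤ 2 * T.genus - 2 := by
  unfold Models.NumericalType.genus
  have := Int.ediv_mul_le (∑ i, T.m i * T.a i i) (b := 2) (by norm_num)
  linarith

theorem sum_local_eq (T : Models.NumericalType n) :
    2 * (∑ i, T.m i * T.w i * (T.g i - 1)) - (∑ i, T.m i * T.a i i)
      = ∑ i, T.m i * (2 * T.w i * (T.g i - 1) - T.a i i) := by
  rw [Finset.mul_sum, ← Finset.sum_sub_distrib]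
  exact Finset.sum_congr rfl fun i _ => by ring

theorem one_le_genus_of_isMinimal (hmin : T.IsMinimal) (hn : 1 < n) : 1 ≤ T.genus := by
  have h1 := two_mul_genus_ge T
  rw [sum_local_eq] at h1
  have h2 : 0 ≤ ∑ i, T.m i * (2 * T.w i * (T.g i - 1) - T.a i i) :=
    Finset.sum_nonneg fun i _ => mul_nonneg (T.m_pos i).le (local_term_nonneg T hmin hn i)
  linarith

end Groth.Agent.Lib.Helper11
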