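import Groth.Agent.Lib.Helper11.NumTypeGenusOne

/-!
Certificate machinery for the classification of genus one minimal numerical types on a fixed
number of indices (helper11).

A "known configuration" is an embedding `v : Fin k ↪ Fin n` together with the exact matrix `M` of
Cartan integers `cart T (v a) (v b)`.  All side conditions are closed boolean computations which are
discharged by `decide`.
-/

set_option autoImplicit false
open Finset

namespace Groth.Agent.Lib.Helper11

open Models Models.NumericalType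

/-! ### computable helpers -/

/-- structural sum over `Fin k` -/
def fsum : (k : ℕ) → (Fin k → ℤ) → ℤ
  | 0, _ => 0
  | k + 1, f => f 0 + fsum k (fun i => f i.succ)

theorem fsum_eq : ∀ (k : ℕ) (f : Fin k → ℤ), fsum k f = ∑ i, f i
  | 0, f => by simp [fsum]
  | k + 1, f => by rw [fsum, fsum_eq k, Fin.sum_univ_succ]

/-- structural `all` over `Fin k` -/
def fall : (k : ℕ) → (Fin k → Bool) → Bool
  | 0, _ => true
  | k + 1, p => p 0 && fall k (fun i => p i.succ)

theorem fall_iff : ∀ (k : ℕ) (p : Fin k → Bool), fall k p = true ↔ ∀ i, p i = true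
  | 0, p => by simp [fall]
  | k + 1, p => by rw [fall, Bool.and_eq_true, fall_iff k, Fin.forall_fin_succ]

/-- structural `any` over `Fin k` -/
def fany : (k : ℕ) → (Fin k → Bool) → Bool
  | 0, _ => false
  | k + 1, p => p 0 || fany k (fun i => p i.succ)

theorem fany_iff : ∀ (k : ℕ) (p : Fin k → Bool), fany k p = true ↔ ∃ i, p i = true
  | 0, p => by simp [fany]
  | k + 1, p => by rw [fany, Bool.or_eq_true, fany_iff k, Fin.exists_fin_succ]

/-- the `j`-th entry of `L c` -/
def rowv {k : ℕ} (L : Fin k → Fin k → ℤ) (c : Fin k → ℤ) (j : Fin k) : ℤ :=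
  fsum k (fun j' => L j j' * c j')

theorem rowv_eq {k : ℕ} (L : Fin k → Fin k → ℤ) (c : Fin k → ℤ) (j : Fin k) :
    rowv L c j = ∑ j', L j j' * c j' := fsum_eq _ _

/-- certificate check for the "proper support" delta argument -/
def checkP (n k : ℕ) (L : Fin k → Fin k → ℤ) (c : Fin k → ℤ) : Bool :=
  fall k (fun j => decide (0 ≤ c j)) && fany k (fun j => decide (c j ≠ 0)) &&
    (decide (k < n) || fany k (fun j => decide (c j = 0))) &&
    fall k (fun j => decide (c j = 0) || decide (0 ≤ rowv L c j))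

theorem checkP_spec {n k : ℕ} {L : Fin k → Fin k → ℤ} {c : Fin k → ℤ}
    (h : checkP n k L c = true) :
    (∀ j, 0 ≤ c j) ∧ (∃ j, c j ≠ 0) ∧ (k < n ∨ ∃ j, c j = 0) ∧
      ∀ j, c j ≠ 0 → 0 ≤ ∑ j', L j j' * c j' := by
  unfold checkP at h
  simp only [Bool.and_eq_true, Bool.or_eq_true, fall_iff, fany_iff, decide_eq_true_eq,
    rowv_eq] at h
  obtain ⟨⟨⟨h1, h2⟩, h3⟩, h4⟩ := h
  refine ⟨h1, h2, h3, fun j hj => ?_⟩
  rcases h4 j with h5 | h5
  · exact absurd h5 hj
  · exact h5

/-- certificate check for the pairing argument (full configurations) -/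
def checkF (k : ℕ) (M : Fin k → Fin k → ℤ) (c : Fin k → ℤ) : Bool :=
  fall k (fun j => decide (0 ≤ rowv M c j)) && fany k (fun j => decide (0 < rowv M c j))

theorem checkF_spec {k : ℕ} {M : Fin k → Fin k → ℤ} {c : Fin k → ℤ}
    (h : checkF k M c = true) :
    (∀ j, 0 ≤ ∑ j', M j j' * c j') ∧ ∃ j, 0 < ∑ j', M j j' * c j' := by
  unfold checkF at h
  simpa only [Bool.and_eq_true, fall_iff, fany_iff, decide_eq_true_eq, rowv_eq] using h

/-- the matrix `M` bordered by a new last row `r` and column `cv` (corner `-2`) -/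
def border {k : ℕ} (M : Fin k → Fin k → ℤ) (r cv : Fin k → ℤ) :
    Fin (k + 1) → Fin (k + 1) → ℤ := fun a b =>
  if ha : a.val < k then
    if hb : b.val < k then M ⟨a.val, ha⟩ ⟨b.val, hb⟩ else cv ⟨a.val, ha⟩
  else
    if hb : b.val < k then r ⟨b.val, hb⟩ else -2

/-- the vector with value `p` at `i` and zero elsewhere -/
def single {k : ℕ} (i : Fin k) (p : ℤ) : Fin k → ℤ := fun l => if l = i then p else 0

/-- the vector with value `p₁` at `i₁`, `p₂` at `i₂` and zero elsewhere -/
def double {k : ℕ} (i₁ : Fin k) (p₁ : ℤ) (i₂ : Fin k) (p₂ : ℤ) : Fin k → ℤ := fun l =>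
  if l = i₁ then p₁ else if l = i₂ then p₂ else 0

/-- check that `perm` is injective and `M''` is `M'` transported along `perm` -/
def checkPerm (k : ℕ) (M' : Fin k → Fin k → ℤ) (perm : Fin k → Fin k)
    (M'' : Fin k → Fin k → ℤ) : Bool :=
  fall k (fun a => fall k (fun b => decide (a = b) || decide (perm a ≠ perm b))) &&
    fall k (fun a => fall k (fun b => decide (M'' a b = M' (perm a) (perm b))))

theorem checkPerm_spec {k : ℕ} {M' : Fin k → Fin k → ℤ} {perm : Fin k → Fin k}
    {M'' : Fin k → Fin k → ℤ} (h : checkPerm k M' perm M'' = true) :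
    Function.Injective perm ∧ ∀ a b, M'' a b = M' (perm a) (perm b) := by
  unfold checkPerm at h
  simp only [Bool.and_eq_true, Bool.or_eq_true, fall_iff, decide_eq_true_eq] at h
  refine ⟨fun a b hab => ?_, h.2⟩
  rcases h.1 a b with h1 | h1
  · exact h1
  · exact absurd hab h1

/-- all pairs of distinct vertices (outside the exceptional pairs) have a cycle certificate -/
def checkPairs (n k : ℕ) (M : Fin k → Fin k → ℤ) (exc : Fin k → Fin k → Bool)
    (pc : Fin k → Fin k → Fin (k + 1) → ℤ) : Bool :=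
  fall k (fun i => fall k (fun l => decide (i = l) || exc i l ||
    checkP n (k + 1) (border M (double i 1 l 1) (double i 1 l 1)) (pc i l)))

/-- final check: the configuration `M'` read along `π` is the listed type `(mc, wc, ac)` -/
def checkFinal (n k : ℕ) (M' : Fin k → Fin k → ℤ) (π : Fin n → Fin k) (mc wc : Fin n → ℤ)
    (ac : Fin n → Fin n → ℤ) (j0 j1 : Fin n) : Bool :=
  fall n (fun a => fall n (fun b => decide (a = b) || decide (π a ≠ π b))) &&
    fall n (fun i => decide (fsum n (fun j => M' (π i) (π j) * mc j) = 0)) &&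
    decide (mc j0 = 1) && decide (wc j1 = 1) && fall n (fun i => decide (0 < wc i)) &&
    fall n (fun i => fall n (fun j => decide (wc i * M' (π i) (π j) = wc j * M' (π j) (π i)))) &&
    fall n (fun i => fall n (fun j => decide (ac i j = wc i * M' (π i) (π j))))

variable {n : ℕ} (T : Models.NumericalType n)

/-- exact knowledge of the Cartan integers on a configuration -/
def Knows {k : ℕ} (v : Fin k ↪ Fin n) (M : Fin k → Fin k → ℤ) : Prop :=
  ∀ a b, cart T (v a) (v b) = M a b

/-- a listed type: multiplicities, weights and intersection numbers along `σ` -/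
def IsType (σ : Equiv.Perm (Fin n)) (m w : ℤ) (mc wc : Fin n → ℤ) (ac : Fin n → Fin n → ℤ) :
    Prop :=
  (∀ i, T.m (σ i) = mc i * m) ∧ (∀ i, T.w (σ i) = wc i * w) ∧
    ∀ i j, T.a (σ i) (σ j) = ac i j * w

/-! ### the quadratic form on sub-configurations -/

theorem quad_extend {k : ℕ} (v : Fin k ↪ Fin n) (c : Fin k → ℤ) :
    ∑ i, ∑ j, T.a i j * Function.extend v c 0 i * Function.extend v c 0 j
      = ∑ j, ∑ j', T.a (v j) (v j') * c j * c j' := by
  classical
  set y : Fin n → ℤ := Function.extend v c 0 with hy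
  have : ∀ i, ∑ j, T.a i j * y i * y j = ∑ j', T.a i (v j') * y i * c j' := by
    intro i
    exact sum_extend v c (fun j t => T.a i j * y i * t) (fun j => by simp)
  simp_rw [this]
  rw [Finset.sum_comm]
  have h2 : ∀ j', ∑ i, T.a i (v j') * y i * c j' = ∑ j, T.a (v j) (v j') * c j * c j' := by
    intro j'
    exact sum_extend v c (fun i t => T.a i (v j') * t * c j') (fun i => by simp)
  simp_rw [h2]
  rw [Finset.sum_comm]

/-- The delta argument for a vector which vanishes somewhere or lives on a proper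
sub-configuration. -/
theorem delta_false' {k : ℕ} (v : Fin k ↪ Fin n) (c : Fin k → ℤ)
    (hc0 : ∀ j, 0 ≤ c j) (hc : ∃ j, c j ≠ 0) (hprop : k < n ∨ ∃ j, c j = 0)
    (h : ∀ j, c j ≠ 0 → 0 ≤ ∑ j', T.a (v j) (v j') * c j') : False := by
  classical
  have hcne : c ≠ 0 := by
    obtain ⟨j, hj⟩ := hc
    intro h0
    exact hj (by rw [h0]; rfl)
  have hneg : ∑ j, ∑ j', T.a (v j) (v j') * c j * c j' < 0 := by
    rcases hprop with hk | ⟨j0, hj0⟩
    · exact quad_neg_sub T v hk c hcne
    · rw [← quad_extend]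
      refine quad_neg_of_zero T _ (v j0) ?_ ?_
      · rw [v.injective.extend_apply, hj0]
      · intro h0
        obtain ⟨j, hj⟩ := hc
        apply hj
        have := congrFun h0 (v j)
        rw [v.injective.extend_apply] at this
        exact this
  have hnn : 0 ≤ ∑ j, ∑ j', T.a (v j) (v j') * c j * c j' := by
    refine Finset.sum_nonneg fun j _ => ?_
    have : ∑ j', T.a (v j) (v j') * c j * c j' = c j * ∑ j', T.a (v j) (v j') * c j' := by
      rw [Finset.mul_sum]
      exact Finset.sum_congr rfl fun j' _ => by ring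
    rw [this]
    by_cases hz : c j = 0
    · rw [hz, zero_mul]
    · exact mul_nonneg (hc0 j) (h j hz)
  linarith

/-- Proper-support certificate with a lower bound matrix. -/
theorem certP_false {k : ℕ} (v : Fin k ↪ Fin n) (L : Fin k → Fin k → ℤ)
    (hL : ∀ a b, L a b ≤ cart T (v a) (v b)) (c : Fin k → ℤ)
    (h : checkP n k L c = true) : False := by
  obtain ⟨h1, h2, h3, h4⟩ := checkP_spec h
  refine delta_false' T v c h1 h2 h3 fun j hj => ?_
  have hw := T.w_pos (v j)
  have e : ∑ j', T.a (v j) (v j') * c j' = T.w (v j) * ∑ j', cart T (v j) (v j') * c j' := by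
    rw [Finset.mul_sum]
    refine Finset.sum_congr rfl fun j' _ => ?_
    rw [← mul_assoc, w_mul_cart]
  rw [e]
  apply mul_nonneg hw.le
  refine le_trans (h4 j hj) (Finset.sum_le_sum fun j' _ => ?_)
  exact mul_le_mul_of_nonneg_right (hL j j') (h1 j')

/-- Pairing certificate on a full configuration. -/
theorem certF_false {k : ℕ} (v : Fin k ↪ Fin n) (hkn : k = n) (M : Fin k → Fin k → ℤ)
    (hM : Knows T v M) (c : Fin k → ℤ) (h : checkF k M c = true) : False := by
  obtain ⟨h1, j0, h2⟩ := checkF_spec h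
  have hbij : Function.Bijective v := by
    rw [Fintype.bijective_iff_injective_and_card]
    exact ⟨v.injective, by simp [hkn]⟩
  have hpos : 0 < ∑ j, T.w (v j) * T.m (v j) * ∑ j', M j j' * c j' := by
    refine Finset.sum_pos' (fun j _ => ?_) ⟨j0, mem_univ _, ?_⟩
    · exact mul_nonneg (mul_nonneg (T.w_pos _).le (T.m_pos _).le) (h1 j)
    · exact mul_pos (mul_pos (T.w_pos _) (T.m_pos _)) h2
  have hzero : ∑ j, T.w (v j) * T.m (v j) * ∑ j', M j j' * c j' = 0 := by
    have e1 : ∀ j, T.w (v j) * T.m (v j) * ∑ j', M j j' * c j'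
        = ∑ j', c j' * (T.a (v j) (v j') * T.m (v j)) := by
      intro j
      rw [Finset.mul_sum]
      refine Finset.sum_congr rfl fun j' _ => ?_
      rw [← hM j j', ← w_mul_cart T (v j) (v j')]
      ring
    simp_rw [e1]
    rw [Finset.sum_comm]
    refine Finset.sum_eq_zero fun j' _ => ?_
    rw [← Finset.mul_sum]
    have : ∑ j, T.a (v j) (v j') * T.m (v j) = ∑ i, T.a i (v j') * T.m i :=
      hbij.sum_comp (fun i => T.a i (v j') * T.m i)
    rw [this, col_sum, mul_zero]
  omega

/-! ### extending a configuration by a new vertex -/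

/-- extension of an embedding by a new vertex -/
def snocEmb {k : ℕ} (v : Fin k ↪ Fin n) (x : Fin n) (hx : x ∉ Set.range v) :
    Fin (k + 1) ↪ Fin n :=
  ⟨fun a => if ha : a.val < k then v ⟨a.val, ha⟩ else x, by
    intro a b hab
    by_cases ha : a.val < k <;> by_cases hb : b.val < k
    · simp only [dif_pos ha, dif_pos hb] at hab
      have := v.injective hab
      simp only [Fin.mk.injEq] at this
      exact Fin.ext this
    · simp only [dif_pos ha, dif_neg hb] at hab
      exact absurd ⟨_, hab⟩ hx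
    · simp only [dif_neg ha, dif_pos hb] at hab
      exact absurd ⟨_, hab.symm⟩ hx
    · have h1 := a.isLt
      have h2 := b.isLt
      exact Fin.ext (by omega)⟩

theorem snocEmb_lt {k : ℕ} (v : Fin k ↪ Fin n) (x : Fin n) (hx : x ∉ Set.range v)
    (a : Fin (k + 1)) (ha : a.val < k) : snocEmb v x hx a = v ⟨a.val, ha⟩ := by
  change (if ha : a.val < k then v ⟨a.val, ha⟩ else x) = _
  rw [dif_pos ha]

theorem snocEmb_ge {k : ℕ} (v : Fin k ↪ Fin n) (x : Fin n) (hx : x ∉ Set.range v)
    (a : Fin (k + 1)) (ha : ¬ a.val < k) : snocEmb v x hx a = x := by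
  change (if ha : a.val < k then v ⟨a.val, ha⟩ else x) = _
  rw [dif_neg ha]

/-- lower bound knowledge on the extended configuration -/
theorem lower_snoc {k : ℕ} (v : Fin k ↪ Fin n) (M : Fin k → Fin k → ℤ) (hM : Knows T v M)
    (x : Fin n) (hx : x ∉ Set.range v) (hxx : T.IsMinusTwo x) (r cv : Fin k → ℤ)
    (hr : ∀ l, r l ≤ cart T x (v l)) (hcv : ∀ l, cv l ≤ cart T (v l) x) :
    ∀ a b, border M r cv a b ≤ cart T (snocEmb v x hx a) (snocEmb v x hx b) := by
  intro a b
  unfold border
  by_cases ha : a.val < k <;> by_cases hb : b.val < k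
  · rw [dif_pos ha, dif_pos hb, snocEmb_lt v x hx a ha, snocEmb_lt v x hx b hb, hM]
  · rw [dif_pos ha, dif_neg hb, snocEmb_lt v x hx a ha, snocEmb_ge v x hx b hb]
    exact hcv _
  · rw [dif_neg ha, dif_pos hb, snocEmb_ge v x hx a ha, snocEmb_lt v x hx b hb]
    exact hr _
  · rw [dif_neg ha, dif_neg hb, snocEmb_ge v x hx a ha, snocEmb_ge v x hx b hb,
      cart_diag T hxx]

/-- exact knowledge on the extended configuration -/
theorem knows_snoc {k : ℕ} (v : Fin k ↪ Fin n) (M : Fin k → Fin k → ℤ) (hM : Knows T v M)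
    (x : Fin n) (hx : x ∉ Set.range v) (hxx : T.IsMinusTwo x) (r cv : Fin k → ℤ)
    (hr : ∀ l, cart T x (v l) = r l) (hcv : ∀ l, cart T (v l) x = cv l) :
    Knows T (snocEmb v x hx) (border M r cv) := by
  intro a b
  unfold border
  by_cases ha : a.val < k <;> by_cases hb : b.val < k
  · rw [dif_pos ha, dif_pos hb, snocEmb_lt v x hx a ha, snocEmb_lt v x hx b hb, hM]
  · rw [dif_pos ha, dif_neg hb, snocEmb_lt v x hx a ha, snocEmb_ge v x hx b hb]
    exact hcv _
  · rw [dif_neg ha, dif_pos hb, snocEmb_ge v x hx a ha, snocEmb_lt v x hx b hb]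
    exact hr _
  · rw [dif_neg ha, dif_neg hb, snocEmb_ge v x hx a ha, snocEmb_ge v x hx b hb,
      cart_diag T hxx]

/-- a new vertex adjacent to the configuration -/
theorem exists_new {k : ℕ} (v : Fin k ↪ Fin n) (hk0 : 0 < k) (hkn : k < n) :
    ∃ x, x ∉ Set.range v ∧ ∃ i, T.a x (v i) ≠ 0 := by
  classical
  have hne : (univ.map v : Finset (Fin n)).Nonempty :=
    ⟨v ⟨0, hk0⟩, Finset.mem_map_of_mem v (mem_univ _)⟩
  have hu : (univ.map v : Finset (Fin n)) ≠ univ := by
    intro h
    have := congrArg Finset.card h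
    simp at this
    omega
  obtain ⟨i', hi', x, hxI, hix⟩ := T.connected _ hne hu
  obtain ⟨i, -, rfl⟩ := Finset.mem_map.1 hi'
  refine ⟨x, ?_, i, ?_⟩
  · rintro ⟨j, rfl⟩
    exact hxI (Finset.mem_map_of_mem v (mem_univ _))
  · rwa [a_symm T x (v i)]

theorem ne_of_not_range {k : ℕ} (v : Fin k ↪ Fin n) {x : Fin n} (hx : x ∉ Set.range v)
    (l : Fin k) : x ≠ v l := fun h => hx ⟨l, h.symm⟩

/-- a new vertex cannot be adjacent to two vertices when the pair has a cycle certificate -/
theorem two_nb_false {k : ℕ} (hm2 : ∀ i, T.IsMinusTwo i) (v : Fin k ↪ Fin n)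
    (M : Fin k → Fin k → ℤ) (hM : Knows T v M) (x : Fin n) (hx : x ∉ Set.range v)
    (i l : Fin k) (hi : T.a x (v i) ≠ 0) (hl : T.a x (v l) ≠ 0)
    (c : Fin (k + 1) → ℤ)
    (h : checkP n (k + 1) (border M (double i 1 l 1) (double i 1 l 1)) c = true) : False := by
  refine certP_false T (snocEmb v x hx) _ (lower_snoc T v M hM x hx (hm2 x) _ _ ?_ ?_) c h
  · intro j
    unfold double
    split_ifs with h1 h2
    · subst h1; exact cart_pos T (ne_of_not_range v hx _) hi
    · subst h2; exact cart_pos T (ne_of_not_range v hx _) hl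
    · exact cart_nonneg T (ne_of_not_range v hx _)
  · intro j
    unfold double
    split_ifs with h1 h2
    · subst h1; exact cart_pos' T (ne_of_not_range v hx _) hi
    · subst h2; exact cart_pos' T (ne_of_not_range v hx _) hl
    · exact cart_nonneg T (ne_of_not_range v hx _).symm

/-- The new vertex has a unique neighbour in the configuration, or it is adjacent to an
exceptional pair and to nothing else. -/
theorem step_unique {k : ℕ} (hm2 : ∀ i, T.IsMinusTwo i) (v : Fin k ↪ Fin n)
    (M : Fin k → Fin k → ℤ) (hM : Knows T v M) (hk0 : 0 < k) (hkn : k < n)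
    (exc : Fin k → Fin k → Bool) (pc : Fin k → Fin k → Fin (k + 1) → ℤ)
    (hpc : checkPairs n k M exc pc = true)
    (hexc : ∀ i l j, exc i l = true → j ≠ i → j ≠ l → exc i j = false ∧ exc j i = false) :
    ∃ x, x ∉ Set.range v ∧
      ((∃ i, T.a x (v i) ≠ 0 ∧ ∀ l, l ≠ i → T.a x (v l) = 0) ∨
       (∃ i l, exc i l = true ∧ i ≠ l ∧ T.a x (v i) ≠ 0 ∧ T.a x (v l) ≠ 0 ∧
          ∀ j, j ≠ i → j ≠ l → T.a x (v j) = 0)) := by
  obtain ⟨x, hx, i, hi⟩ := exists_new T v hk0 hkn
  refine ⟨x, hx, ?_⟩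
  unfold checkPairs at hpc
  simp only [fall_iff, Bool.or_eq_true, decide_eq_true_eq] at hpc
  have key : ∀ i l, i ≠ l → exc i l = false → T.a x (v i) ≠ 0 → T.a x (v l) ≠ 0 → False := by
    intro i l hil he hi hl
    rcases hpc i l with (h1 | h1) | h1
    · exact hil h1
    · rw [he] at h1; exact Bool.false_ne_true h1
    · exact two_nb_false T hm2 v M hM x hx i l hi hl _ h1
  by_cases hun : ∀ l, l ≠ i → T.a x (v l) = 0
  · exact Or.inl ⟨i, hi, hun⟩
  · push Not at hun
    obtain ⟨l, hli, hl⟩ := hun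
    have hex : exc i l = true := by
      by_contra hcon
      exact key i l (Ne.symm hli) (by simpa using hcon) hi hl
    refine Or.inr ⟨i, l, hex, Ne.symm hli, hi, hl, fun j hji hjl => ?_⟩
    by_contra hj
    exact key i j (Ne.symm hji) (hexc i l j hex hji hjl).1 hi hj

/-- the five possible pairs of Cartan integers on an edge (more than two indices) -/
theorem pair5 (hn : 2 < n) (hm2 : ∀ i, T.IsMinusTwo i) {x y : Fin n} (hxy : x ≠ y)
    (h : T.a x y ≠ 0) :
    (cart T x y = 1 ∧ cart T y x = 1) ∨ (cart T x y = 1 ∧ cart T y x = 2) ∨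
      (cart T x y = 2 ∧ cart T y x = 1) ∨ (cart T x y = 1 ∧ cart T y x = 3) ∨
      (cart T x y = 3 ∧ cart T y x = 1) := by
  obtain ⟨p1, p2⟩ := cart_pos_both T hxy h
  have h3 := chain2' T hn hm2 hxy h
  obtain ⟨b1, b2⟩ := le_three_of_prod_le_three p2 p1 h3
  generalize cart T x y = p at *
  generalize cart T y x = q at *
  interval_cases p <;> interval_cases q <;> omega

theorem row_single {k : ℕ} (v : Fin k ↪ Fin n) {x : Fin n} (i : Fin k)
    (hz : ∀ l, l ≠ i → T.a x (v l) = 0) {p : ℤ} (hp : cart T x (v i) = p) :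
    ∀ l, cart T x (v l) = single i p l := by
  intro l
  unfold single
  split_ifs with h
  · rw [h, hp]
  · exact (cart_eq_zero_iff T).2 (hz l h)

theorem col_single {k : ℕ} (v : Fin k ↪ Fin n) {x : Fin n} (i : Fin k)
    (hz : ∀ l, l ≠ i → T.a x (v l) = 0) {q : ℤ} (hq : cart T (v i) x = q) :
    ∀ l, cart T (v l) x = single i q l := by
  intro l
  unfold single
  split_ifs with h
  · rw [h, hq]
  · exact (cart_eq_zero_iff T).2 (by rw [a_symm]; exact hz l h)

theorem row_double {k : ℕ} (v : Fin k ↪ Fin n) {x : Fin n} (i₁ i₂ : Fin k)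
    (hz : ∀ l, l ≠ i₁ → l ≠ i₂ → T.a x (v l) = 0) {p₁ p₂ : ℤ}
    (hp₁ : cart T x (v i₁) = p₁) (hp₂ : cart T x (v i₂) = p₂) :
    ∀ l, cart T x (v l) = double i₁ p₁ i₂ p₂ l := by
  intro l
  unfold double
  split_ifs with h h'
  · rw [h, hp₁]
  · rw [h', hp₂]
  · exact (cart_eq_zero_iff T).2 (hz l h h')

theorem col_double {k : ℕ} (v : Fin k ↪ Fin n) {x : Fin n} (i₁ i₂ : Fin k)
    (hz : ∀ l, l ≠ i₁ → l ≠ i₂ → T.a x (v l) = 0) {q₁ q₂ : ℤ}
    (hq₁ : cart T (v i₁) x = q₁) (hq₂ : cart T (v i₂) x = q₂) :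
    ∀ l, cart T (v l) x = double i₁ q₁ i₂ q₂ l := by
  intro l
  unfold double
  split_ifs with h h'
  · rw [h, hq₁]
  · rw [h', hq₂]
  · exact (cart_eq_zero_iff T).2 (by rw [a_symm]; exact hz l h h')

/-! ### leaves -/

/-- re-indexing an embedding along an injective map -/
theorem knows_perm {k : ℕ} (v : Fin k ↪ Fin n) (M' : Fin k → Fin k → ℤ) (hM' : Knows T v M')
    (perm : Fin k → Fin k) (hperm : Function.Injective perm) (M'' : Fin k → Fin k → ℤ)
    (h : ∀ a b, M'' a b = M' (perm a) (perm b)) : Knows T (subEmb v perm hperm) M'' := by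
  intro a b
  rw [subEmb_apply, subEmb_apply, hM', h]

/-- continue with the extended configuration, re-indexed -/
theorem leaf_next {P : Prop} {k : ℕ} (hm2 : ∀ i, T.IsMinusTwo i) (v : Fin k ↪ Fin n)
    (M : Fin k → Fin k → ℤ) (hM : Knows T v M) {x : Fin n} (hx : x ∉ Set.range v)
    (r cv : Fin k → ℤ) (hr : ∀ l, cart T x (v l) = r l) (hcv : ∀ l, cart T (v l) x = cv l)
    (perm : Fin (k + 1) → Fin (k + 1)) (M'' : Fin (k + 1) → Fin (k + 1) → ℤ)
    (hcheck : checkPerm (k + 1) (border M r cv) perm M'' = true)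
    (cont : ∀ v'' : Fin (k + 1) ↪ Fin n, Knows T v'' M'' → P) : P := by
  obtain ⟨h1, h2⟩ := checkPerm_spec hcheck
  exact cont _ (knows_perm T _ _ (knows_snoc T v M hM x hx (hm2 x) r cv hr hcv) perm h1 M'' h2)

/-- contradiction from a proper-support certificate on the extended configuration -/
theorem leaf_falseP {k : ℕ} (hm2 : ∀ i, T.IsMinusTwo i) (v : Fin k ↪ Fin n)
    (M : Fin k → Fin k → ℤ) (hM : Knows T v M) {x : Fin n} (hx : x ∉ Set.range v)
    (r cv : Fin k → ℤ) (hr : ∀ l, cart T x (v l) = r l) (hcv : ∀ l, cart T (v l) x = cv l)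
    (c : Fin (k + 1) → ℤ) (hcheck : checkP n (k + 1) (border M r cv) c = true) : False :=
  certP_false T (snocEmb v x hx) _
    (fun a b => le_of_eq (knows_snoc T v M hM x hx (hm2 x) r cv hr hcv a b).symm) c hcheck

/-- contradiction from a pairing certificate on the extended (full) configuration -/
theorem leaf_falseF {k : ℕ} (hm2 : ∀ i, T.IsMinusTwo i) (v : Fin k ↪ Fin n)
    (M : Fin k → Fin k → ℤ) (hM : Knows T v M) {x : Fin n} (hx : x ∉ Set.range v)
    (hkn : k + 1 = n)
    (r cv : Fin k → ℤ) (hr : ∀ l, cart T x (v l) = r l) (hcv : ∀ l, cart T (v l) x = cv l)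
    (c : Fin (k + 1) → ℤ) (hcheck : checkF (k + 1) (border M r cv) c = true) : False :=
  certF_false T (snocEmb v x hx) hkn _ (knows_snoc T v M hM x hx (hm2 x) r cv hr hcv) c hcheck

/-- A full configuration which is one of the listed types. -/
theorem final_type {k : ℕ} (v : Fin k ↪ Fin n) (M' : Fin k → Fin k → ℤ) (hM' : Knows T v M')
    (π : Fin n → Fin k) (mc wc : Fin n → ℤ) (ac : Fin n → Fin n → ℤ) (j0 j1 : Fin n)
    (hcheck : checkFinal n k M' π mc wc ac j0 j1 = true) :
    ∃ σ : Equiv.Perm (Fin n), IsType T σ (T.m (σ j0)) (T.w (σ j1)) mc wc ac := by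
  unfold checkFinal at hcheck
  simp only [Bool.and_eq_true, Bool.or_eq_true, fall_iff, decide_eq_true_eq, fsum_eq] at hcheck
  obtain ⟨⟨⟨⟨⟨⟨hinj, hker⟩, hm0⟩, hw1⟩, hwpos⟩, hsym⟩, hac⟩ := hcheck
  have hπ : Function.Injective π := by
    intro a b hab
    rcases hinj a b with h1 | h1
    · exact h1
    · exact absurd hab h1
  have hbij : Function.Bijective (fun i => v (π i)) :=
    Finite.injective_iff_bijective.1 (v.injective.comp hπ)
  let σ : Equiv.Perm (Fin n) := Equiv.ofBijective _ hbij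
  have hσ : ∀ i, σ i = v (π i) := fun i => rfl
  have hcart : ∀ i j, cart T (σ i) (σ j) = M' (π i) (π j) := fun i j => hM' _ _
  refine ⟨σ, ?_⟩
  -- multiplicities
  have hmul : ∀ i, T.m (σ i) = mc i * T.m (σ j0) := by
    let y : Fin n → ℤ := fun x => mc (σ.symm x)
    have hy : T.a.mulVec y = 0 := by
      funext x
      obtain ⟨i, rfl⟩ := σ.surjective x
      simp only [Matrix.mulVec, dotProduct, Pi.zero_apply]
      rw [← Equiv.sum_comp σ]
      have : ∀ j, T.a (σ i) (σ j) * y (σ j) = T.w (σ i) * (M' (π i) (π j) * mc j) := by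
        intro j
        simp only [y, Equiv.symm_apply_apply]
        rw [← hcart, ← mul_assoc, w_mul_cart]
      simp_rw [this]
      rw [← Finset.mul_sum, hker i, mul_zero]
    intro i
    have := ker_proportional T y hy (σ i) (σ j0)
    simp only [y, Equiv.symm_apply_apply] at this
    rw [hm0, one_mul] at this
    exact this.symm
  -- weights
  have hwt : ∀ i, T.w (σ i) = wc i * T.w (σ j1) := by
    let z : Fin n → ℚ := fun x => (T.w x : ℚ) / (wc (σ.symm x) : ℚ)
    have hwc : ∀ i, (wc i : ℚ) ≠ 0 := fun i => by exact_mod_cast (hwpos i).ne'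
    have hz : ∀ x x', T.a x x' ≠ 0 → z x = z x' := by
      intro x x' hxx'
      obtain ⟨i, rfl⟩ := σ.surjective x
      obtain ⟨j, rfl⟩ := σ.surjective x'
      simp only [z, Equiv.symm_apply_apply]
      rw [div_eq_div_iff (hwc i) (hwc j)]
      have h1 := w_cart_symm T (σ i) (σ j)
      rw [hcart, hcart] at h1
      have h2 := hsym i j
      have h3 : M' (π i) (π j) ≠ 0 := by
        rw [← hcart]
        exact fun h => hxx' ((cart_eq_zero_iff T).1 h)
      have h4 : (T.w (σ i) * wc j - T.w (σ j) * wc i) * M' (π i) (π j) = 0 := by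
        have e1 : T.w (σ i) * wc j * M' (π i) (π j) = wc j * (T.w (σ j) * M' (π j) (π i)) := by
          rw [← h1]; ring
        have e2 : T.w (σ j) * wc i * M' (π i) (π j) = T.w (σ j) * (wc j * M' (π j) (π i)) := by
          rw [← h2]; ring
        rw [sub_mul, e1, e2]; ring
      have h5 : T.w (σ i) * wc j - T.w (σ j) * wc i = 0 := by
        rcases mul_eq_zero.1 h4 with h | h
        · exact h
        · exact absurd h h3
      have h6 : T.w (σ i) * wc j = T.w (σ j) * wc i := by linarith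
      exact_mod_cast h6
    intro i
    have := const_of_edge T z hz (σ i) (σ j1)
    simp only [z, Equiv.symm_apply_apply] at this
    rw [div_eq_div_iff (hwc i) (hwc j1)] at this
    have h7 : T.w (σ i) * wc j1 = T.w (σ j1) * wc i := by exact_mod_cast this
    rw [hw1, mul_one] at h7
    rw [h7]; ring
  refine ⟨hmul, hwt, fun i j => ?_⟩
  rw [← w_mul_cart, hcart, hwt i, hac i j]
  ring

/-- final leaf: the extended configuration is a listed type -/
theorem leaf_final {k : ℕ} (hm2 : ∀ i, T.IsMinusTwo i) (v : Fin k ↪ Fin n)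
    (M : Fin k → Fin k → ℤ) (hM : Knows T v M) {x : Fin n} (hx : x ∉ Set.range v)
    (r cv : Fin k → ℤ) (hr : ∀ l, cart T x (v l) = r l) (hcv : ∀ l, cart T (v l) x = cv l)
    (π : Fin n → Fin (k + 1)) (mc wc : Fin n → ℤ) (ac : Fin n → Fin n → ℤ) (j0 j1 : Fin n)
    (hcheck : checkFinal n (k + 1) (border M r cv) π mc wc ac j0 j1 = true) :
    ∃ σ : Equiv.Perm (Fin n), IsType T σ (T.m (σ j0)) (T.w (σ j1)) mc wc ac :=
  final_type T (snocEmb v x hx) _ (knows_snoc T v M hM x hx (hm2 x) r cv hr hcv) π mc wc ac j0 j1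
    hcheck

/-- the one point configuration -/
def pointEmb (i : Fin n) : Fin 1 ↪ Fin n :=
  ⟨fun _ => i, fun a b _ => Subsingleton.elim a b⟩

theorem knows_point (hm2 : ∀ i, T.IsMinusTwo i) (i : Fin n) (M : Fin 1 → Fin 1 → ℤ)
    (h : M 0 0 = -2) : Knows T (pointEmb i) M := by
  intro a b
  rw [Fin.fin_one_eq_zero a, Fin.fin_one_eq_zero b, h]
  exact cart_diag T (hm2 i)

end Groth.Agent.Lib.Helper11
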