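import Groth.Agent.Lib.Helper11.NumTypeTop

/-!
Bounds for the indices which are not (-2)-indices (helper11).
-/

set_option autoImplicit false
open Finset

namespace Groth.Agent.Lib.Helper11

open Models Models.NumericalType

variable {n : ℕ} (T : Models.NumericalType n)

/-- local term of `2g - 2` -/
def tt (i : Fin n) : ℤ := T.m i * (2 * T.w i * (T.g i - 1) - T.a i i)

theorem sum_tt_le : ∑ i, tt T i ≤ 2 * T.genus - 2 := by
  have h1 := two_mul_genus_ge T
  rw [sum_local_eq] at h1
  exact h1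

theorem tt_nonneg (hmin : T.IsMinimal) (hn : 1 < n) (i : Fin n) : 0 ≤ tt T i :=
  mul_nonneg (T.m_pos i).le (local_term_nonneg T hmin hn i)

theorem a_diag_eq (i : Fin n) : T.a i i = - (T.w i * kk T i) := by
  have := w_mul_kk T i; linarith

theorem tt_eq (i : Fin n) : tt T i = T.m i * T.w i * (2 * T.g i - 2 + kk T i) := by
  unfold tt; rw [a_diag_eq T i]; ring

theorem kk_pos (hn : 1 < n) (i : Fin n) : 1 ≤ kk T i := by
  have hneg := diag_neg T hn i
  have hw := T.w_pos i
  rw [a_diag_eq T i] at hneg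
  by_contra h
  have h' : kk T i ≤ 0 := by omega
  nlinarith

theorem kk_ge_two (hmin : T.IsMinimal) (hn : 1 < n) (i : Fin n) (h0 : T.g i = 0) :
    2 ≤ kk T i := by
  have h1 := kk_pos T hn i
  have hk1 : kk T i ≠ 1 := by
    intro h
    apply hmin i
    refine ⟨h0, ?_⟩
    rw [a_diag_eq T i, h]; ring
  omega

theorem kk_ge_three (hmin : T.IsMinimal) (hn : 1 < n) (i : Fin n) (h0 : T.g i = 0)
    (h2 : ¬ T.IsMinusTwo i) : 3 ≤ kk T i := by
  have h1 := kk_ge_two T hmin hn i h0
  have hk2 : kk T i ≠ 2 := by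
    intro h
    apply h2
    refine ⟨h0, ?_⟩
    rw [a_diag_eq T i, h]; ring
  omega

theorem mw_pos (i : Fin n) : 1 ≤ T.m i * T.w i := by
  have hw := T.w_pos i
  have hm := T.m_pos i
  nlinarith

theorem bounds_of_not_minusTwo (hmin : T.IsMinimal) (hn : 1 < n) (j : Fin n)
    (h2 : ¬ T.IsMinusTwo j) :
    1 ≤ tt T j ∧ 2 * T.g j - 1 ≤ tt T j ∧ T.m j * |T.a j j| ≤ 3 * tt T j := by
  have hmw := mw_pos T j
  have hk := kk_pos T hn j
  have hg := T.g_nonneg j
  have habs : |T.a j j| = T.w j * kk T j := by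
    rw [abs_of_nonpos (diag_nonpos T j), a_diag_eq T j, neg_neg]
  rw [habs, tt_eq T j]
  rcases eq_or_lt_of_le hg with h0 | hpos
  · have hk3 := kk_ge_three T hmin hn j h0.symm h2
    rw [← h0]
    refine ⟨by nlinarith, by nlinarith, by nlinarith⟩
  · have hg1 : 1 ≤ T.g j := hpos
    have hx : 0 ≤ T.m j * T.w j * (2 * T.g j - 2) := by
      have : 0 ≤ 2 * T.g j - 2 := by linarith
      positivity
    have hy : kk T j ≤ T.m j * T.w j * kk T j := by nlinarith
    refine ⟨by nlinarith, ?_, by nlinarith⟩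
    have hz : 2 * T.g j - 2 ≤ T.m j * T.w j * (2 * T.g j - 2) := by
      have : 0 ≤ 2 * T.g j - 2 := by linarith
      nlinarith
    nlinarith

theorem tt_le_genus (hmin : T.IsMinimal) (hn : 1 < n) (j : Fin n) :
    tt T j ≤ 2 * T.genus - 2 :=
  le_trans (Finset.single_le_sum (f := fun i => tt T i)
    (fun i _ => tt_nonneg T hmin hn i) (mem_univ j)) (sum_tt_le T)

theorem mul_a_le (i j : Fin n) : T.m i * T.a i j ≤ T.m j * |T.a j j| := by
  by_cases hij : i = j
  · subst hij
    have h1 := diag_nonpos T i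
    have h2 := T.m_pos i
    have h3 : 0 ≤ T.m i * |T.a i i| := mul_nonneg h2.le (abs_nonneg _)
    nlinarith
  · have hdiag : T.a j j ≤ 0 := diag_nonpos T j
    have habs : |T.a j j| = - T.a j j := abs_of_nonpos hdiag
    have h1 : T.a j i * T.m i ≤ - (T.a j j * T.m j) := offdiag_le T j i hij
    have hsymm : T.a j i = T.a i j := a_symm T j i
    rw [habs]; rw [hsymm] at h1; linarith

end Groth.Agent.Lib.Helper11
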