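import Groth.Agent.Lib.Helper11.NumTypeNegDef

/-!
Cartan integers `cart i j = a i j / w i` of a numerical type and the delta argument in
Cartan form on sub-configurations of `(-2)`-indices (helper11).
-/

set_option autoImplicit false
open Finset

namespace Groth.Agent.Lib.Helper11

open Models Models.NumericalType

variable {n : ℕ} (T : Models.NumericalType n)

/-- Cartan integers. -/
def cart (i j : Fin n) : ℤ := T.a i j / T.w i

theorem w_mul_cart (i j : Fin n) : T.w i * cart T i j = T.a i j :=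
  Int.mul_ediv_cancel' (T.w_dvd i j)

theorem cart_diag {i : Fin n} (hi : T.IsMinusTwo i) : cart T i i = -2 := by
  have h := w_mul_cart T i i
  rw [hi.2] at h
  have hw := T.w_pos i
  have : T.w i * (cart T i i + 2) = 0 := by linarith
  rcases mul_eq_zero.1 this with h1 | h1
  · omega
  · omega

theorem cart_nonneg {i j : Fin n} (h : i ≠ j) : 0 ≤ cart T i j := by
  have h1 := w_mul_cart T i j
  have h2 := T.offDiag_nonneg i j h
  have hw := T.w_pos i
  by_contra hcon
  have : cart T i j ≤ -1 := by omega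
  nlinarith

theorem cart_eq_zero_iff {i j : Fin n} : cart T i j = 0 ↔ T.a i j = 0 := by
  have h1 := w_mul_cart T i j
  have hw := T.w_pos i
  constructor
  · intro h; rw [h] at h1; linarith
  · intro h; rw [h] at h1
    rcases mul_eq_zero.1 h1 with h2 | h2
    · omega
    · exact h2

theorem cart_pos {i j : Fin n} (hne : i ≠ j) (h : T.a i j ≠ 0) : 1 ≤ cart T i j := by
  have h0 := cart_nonneg T hne
  have : cart T i j ≠ 0 := fun hc => h ((cart_eq_zero_iff T).1 hc)
  omega

theorem cart_pos' {i j : Fin n} (hne : i ≠ j) (h : T.a i j ≠ 0) : 1 ≤ cart T j i :=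
  cart_pos T hne.symm (by rwa [a_symm T j i])

theorem w_cart_symm (i j : Fin n) : T.w i * cart T i j = T.w j * cart T j i := by
  rw [w_mul_cart, w_mul_cart, a_symm]

theorem cart_zero_symm {i j : Fin n} (h : cart T i j = 0) : cart T j i = 0 := by
  rw [cart_eq_zero_iff] at h ⊢
  rwa [a_symm]

/-- The delta argument in Cartan form with neighbour lists. -/
theorem delta_cart {k : ℕ} (v : Fin k ↪ Fin n) (hk : k < n) (hv : ∀ j, T.IsMinusTwo (v j))
    (c : Fin k → ℤ) (hc0 : ∀ j, 0 ≤ c j) (hc : c ≠ 0) (nb : Fin k → Finset (Fin k))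
    (hnb : ∀ j, j ∉ nb j)
    (h : ∀ j, c j ≠ 0 → 2 * c j ≤ ∑ j' ∈ nb j, cart T (v j) (v j') * c j') : False := by
  refine delta_false_nb T v hk c hc0 hc nb hnb fun j hj => ?_
  have h1 := h j hj
  have hw := T.w_pos (v j)
  have e : T.a (v j) (v j) * c j + ∑ j' ∈ nb j, T.a (v j) (v j') * c j'
      = T.w (v j) * (∑ j' ∈ nb j, cart T (v j) (v j') * c j' - 2 * c j) := by
    rw [(hv j).2, mul_sub, Finset.mul_sum]
    have : ∀ j' ∈ nb j, T.a (v j) (v j') * c j' = T.w (v j) * (cart T (v j) (v j') * c j') := by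
      intro j' _
      rw [← mul_assoc, w_mul_cart]
    rw [Finset.sum_congr rfl this]
    ring
  rw [e]
  apply mul_nonneg hw.le
  linarith

/-- An "affine diagram" with marks `c` cannot occur as a proper sub-configuration of
`(-2)`-indices. -/
theorem affine_false {k : ℕ} (v : Fin k ↪ Fin n) (hk : k < n) (hv : ∀ j, T.IsMinusTwo (v j))
    (c : Fin k → ℤ) (hc0 : ∀ j, 0 ≤ c j) (hc : c ≠ 0) (nb : Fin k → Finset (Fin k))
    (hnb : ∀ j, j ∉ nb j)
    (hE : ∀ j, c j ≠ 0 → ∀ j' ∈ nb j, T.a (v j) (v j') ≠ 0 ∨ T.a (v j') (v j) ≠ 0)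
    (h : ∀ j, c j ≠ 0 → 2 * c j ≤ ∑ j' ∈ nb j, c j') : False := by
  refine delta_cart T v hk hv c hc0 hc nb hnb fun j hj => ?_
  refine le_trans (h j hj) (Finset.sum_le_sum fun j' hj' => ?_)
  have hne : v j ≠ v j' := v.injective.ne (fun e => hnb j (e ▸ hj'))
  have h1 : 1 ≤ cart T (v j) (v j') := by
    rcases hE j hj j' hj' with h2 | h2
    · exact cart_pos T hne h2
    · exact cart_pos' T hne.symm h2
  have := hc0 j'
  nlinarith

/-- Row inequality at a `(-2)`-index in Cartan form. -/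
theorem row_ineq_cart {j : Fin n} (hj : T.IsMinusTwo j) (S : Finset (Fin n)) (hS : j ∉ S) :
    ∑ l ∈ S, cart T j l * T.m l ≤ 2 * T.m j := by
  have h := row_ineq T hj S hS
  have hw := T.w_pos j
  have e : ∑ l ∈ S, T.a j l * T.m l = T.w j * ∑ l ∈ S, cart T j l * T.m l := by
    rw [Finset.mul_sum]
    refine Finset.sum_congr rfl fun l _ => ?_
    rw [← mul_assoc, w_mul_cart]
  rw [e] at h
  by_contra hcon
  push Not at hcon
  nlinarith

/-- List form of `delta_cart`: for each vertex in the support give a duplicate-free list of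
other vertices. -/
theorem delta_cart_list {k : ℕ} (v : Fin k ↪ Fin n) (hk : k < n) (hv : ∀ j, T.IsMinusTwo (v j))
    (c : Fin k → ℤ) (hc0 : ∀ j, 0 ≤ c j) (hc : c ≠ 0)
    (h : ∀ j, c j ≠ 0 → ∃ l : List (Fin k), l.Nodup ∧ j ∉ l ∧
      2 * c j ≤ (l.map fun j' => cart T (v j) (v j') * c j').sum) : False := by
  classical
  let nb : Fin k → Finset (Fin k) := fun j =>
    if hj : c j ≠ 0 then (Classical.choose (h j hj)).toFinset else ∅
  refine delta_cart T v hk hv c hc0 hc nb ?_ ?_
  · intro j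
    by_cases hj : c j ≠ 0
    · simp only [nb, dif_pos hj, List.mem_toFinset]
      exact (Classical.choose_spec (h j hj)).2.1
    · simp only [nb, dif_neg hj]
      exact Finset.notMem_empty j
  · intro j hj
    obtain ⟨h1, _, h3⟩ := Classical.choose_spec (h j hj)
    simp only [nb, dif_pos hj]
    rw [List.sum_toFinset _ h1]
    exact h3

/-- List form of `affine_false`. -/
theorem affine_false_list {k : ℕ} (v : Fin k ↪ Fin n) (hk : k < n)
    (hv : ∀ j, T.IsMinusTwo (v j))
    (c : Fin k → ℤ) (hc0 : ∀ j, 0 ≤ c j) (hc : c ≠ 0)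
    (h : ∀ j, c j ≠ 0 → ∃ l : List (Fin k), l.Nodup ∧ j ∉ l ∧
      (∀ j' ∈ l, T.a (v j) (v j') ≠ 0 ∨ T.a (v j') (v j) ≠ 0) ∧
      2 * c j ≤ (l.map c).sum) : False := by
  refine delta_cart_list T v hk hv c hc0 hc fun j hj => ?_
  obtain ⟨l, h1, h2, h3, h4⟩ := h j hj
  refine ⟨l, h1, h2, le_trans h4 ?_⟩
  apply List.sum_le_sum
  intro j' hj'
  have hne : v j ≠ v j' := v.injective.ne (fun e => h2 (e ▸ hj'))
  have h1 : 1 ≤ cart T (v j) (v j') := by
    rcases h3 j' hj' with h2 | h2
    · exact cart_pos T hne h2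
    · exact cart_pos' T hne.symm h2
  have := hc0 j'
  nlinarith

end Groth.Agent.Lib.Helper11
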