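import Groth.Agent.Lib.Helper11.NumTypeCartan

/-!
Local constraints on Cartan integers in proper sub-configurations of `(-2)`-indices (helper11).
-/

set_option autoImplicit false
open Finset

namespace Groth.Agent.Lib.Helper11

open Models Models.NumericalType

variable {n : ℕ} (T : Models.NumericalType n)

/-- no cycles of length 3 -/
theorem no_triangle (v : Fin 3 ↪ Fin n) (hn : 3 < n) (hv : ∀ j, T.IsMinusTwo (v j))
    (h01 : T.a (v 0) (v 1) ≠ 0) (h12 : T.a (v 1) (v 2) ≠ 0) : T.a (v 0) (v 2) = 0 := by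
  by_contra h02
  refine affine_false T v hn hv ![1, 1, 1] ?_ ?_ ![{1, 2}, {0, 2}, {0, 1}] ?_ ?_ ?_
  · intro j; fin_cases j <;> simp
  · intro h; have := congrFun h 0; simp at this
  · intro j; fin_cases j <;> simp
  · intro j _; fin_cases j <;> simp <;> tauto
  · intro j _; fin_cases j <;> simp [Finset.sum_insert]

/-- two adjacent edges: the products of Cartan integers add up to at most 3 -/
theorem chain3 (v : Fin 3 ↪ Fin n) (hn : 3 < n) (hv : ∀ j, T.IsMinusTwo (v j))
    (h01 : T.a (v 0) (v 1) ≠ 0) (h12 : T.a (v 1) (v 2) ≠ 0) :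
    cart T (v 1) (v 0) * cart T (v 0) (v 1) + cart T (v 1) (v 2) * cart T (v 2) (v 1) ≤ 3 := by
  by_contra hcon
  push Not at hcon
  have n01 : v 0 ≠ v 1 := v.injective.ne (by decide)
  have n12 : v 1 ≠ v 2 := v.injective.ne (by decide)
  have p01 := cart_pos T n01 h01
  have p21 := cart_pos' T n12 h12
  refine delta_cart T v hn hv ![cart T (v 0) (v 1), 2, cart T (v 2) (v 1)] ?_ ?_
    ![{1}, {0, 2}, {1}] ?_ ?_
  · intro j; fin_cases j <;> simp <;> omega
  · intro h; have := congrFun h 1; simp at this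
  · intro j; fin_cases j <;> simp
  · intro j _
    fin_cases j
    · simp; linarith
    · simp [Finset.sum_insert]; linarith
    · simp; linarith

/-- a single edge: the product of Cartan integers is at most 3 -/
theorem chain2 (v : Fin 2 ↪ Fin n) (hn : 2 < n) (hv : ∀ j, T.IsMinusTwo (v j))
    (h01 : T.a (v 0) (v 1) ≠ 0) :
    cart T (v 1) (v 0) * cart T (v 0) (v 1) ≤ 3 := by
  by_contra hcon
  push Not at hcon
  have n01 : v 0 ≠ v 1 := v.injective.ne (by decide)
  have p01 := cart_pos T n01 h01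
  refine delta_cart T v hn hv ![cart T (v 0) (v 1), 2] ?_ ?_
    ![{1}, {0}] ?_ ?_
  · intro j; fin_cases j <;> simp <;> omega
  · intro h; have := congrFun h 1; simp at this
  · intro j; fin_cases j <;> simp
  · intro j _
    fin_cases j
    · simp; linarith
    · simp; linarith

/-- sub-embeddings -/
def subEmb {k l : ℕ} (v : Fin k ↪ Fin n) (f : Fin l → Fin k) (hf : Function.Injective f) :
    Fin l ↪ Fin n := ⟨fun x => v (f x), v.injective.comp hf⟩

@[simp] theorem subEmb_apply {k l : ℕ} (v : Fin k ↪ Fin n) (f : Fin l → Fin k)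
    (hf : Function.Injective f) (x : Fin l) : subEmb v f hf x = v (f x) := rfl

/-- Row inequality in a sub-configuration. -/
theorem row_ineq_sub {k : ℕ} (v : Fin k ↪ Fin n) (hv : ∀ j, T.IsMinusTwo (v j)) (j : Fin k)
    (S : Finset (Fin k)) (hS : j ∉ S) :
    ∑ l ∈ S, cart T (v j) (v l) * T.m (v l) ≤ 2 * T.m (v j) := by
  have h := row_ineq_cart T (hv j) (S.map v) (by
    intro hmem
    rw [Finset.mem_map] at hmem
    obtain ⟨l, hl, e⟩ := hmem
    exact hS (v.injective e ▸ hl))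
  rwa [Finset.sum_map] at h

/-- three edges at a vertex: the products of Cartan integers add up to at most 3 -/
theorem star3 (v : Fin 4 ↪ Fin n) (hn : 4 < n) (hv : ∀ j, T.IsMinusTwo (v j))
    (h01 : T.a (v 0) (v 1) ≠ 0) (h02 : T.a (v 0) (v 2) ≠ 0) (h03 : T.a (v 0) (v 3) ≠ 0) :
    cart T (v 0) (v 1) * cart T (v 1) (v 0) + cart T (v 0) (v 2) * cart T (v 2) (v 0)
      + cart T (v 0) (v 3) * cart T (v 3) (v 0) ≤ 3 := by
  by_contra hcon
  push Not at hcon
  have p1 := cart_pos' T (v.injective.ne (by decide : (0 : Fin 4) ≠ 1)) h01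
  have p2 := cart_pos' T (v.injective.ne (by decide : (0 : Fin 4) ≠ 2)) h02
  have p3 := cart_pos' T (v.injective.ne (by decide : (0 : Fin 4) ≠ 3)) h03
  refine delta_cart T v hn hv ![2, cart T (v 1) (v 0), cart T (v 2) (v 0), cart T (v 3) (v 0)]
    ?_ ?_ ![{1, 2, 3}, {0}, {0}, {0}] ?_ ?_
  · intro j; fin_cases j <;> simp <;> omega
  · intro h; have := congrFun h 0; simp at this
  · intro j; fin_cases j <;> simp
  · intro j _
    fin_cases j
    · simp [Finset.sum_insert]; linarith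
    · simp; linarith
    · simp; linarith
    · simp; linarith

theorem one_le_prod {x y : ℤ} (hx : 1 ≤ x) (hy : 1 ≤ y) : 1 ≤ x * y := by nlinarith

theorem eq_one_of_prod_le_one {x y : ℤ} (hx : 1 ≤ x) (hy : 1 ≤ y) (h : x * y ≤ 1) :
    x = 1 ∧ y = 1 := by
  constructor <;> nlinarith

theorem le_three_of_prod_le_three {x y : ℤ} (hx : 1 ≤ x) (hy : 1 ≤ y) (h : x * y ≤ 3) :
    x ≤ 3 ∧ y ≤ 3 := by
  constructor <;> nlinarith

theorem cart_pos_both {i j : Fin n} (hne : i ≠ j) (h : T.a i j ≠ 0) :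
    1 ≤ cart T i j ∧ 1 ≤ cart T j i := ⟨cart_pos T hne h, cart_pos' T hne h⟩

theorem pair_cases_two {x y : ℤ} (hx : 1 ≤ x) (hy : 1 ≤ y) (h : x * y ≤ 2) :
    (x = 1 ∧ y = 1) ∨ (x = 1 ∧ y = 2) ∨ (x = 2 ∧ y = 1) := by
  have hx2 : x ≤ 2 := by nlinarith
  have hy2 : y ≤ 2 := by nlinarith
  interval_cases x <;> interval_cases y <;> omega

/-- no cycles of length 4 -/
theorem no_square (v : Fin 4 ↪ Fin n) (hn : 4 < n) (hv : ∀ j, T.IsMinusTwo (v j))
    (h01 : T.a (v 0) (v 1) ≠ 0) (h12 : T.a (v 1) (v 2) ≠ 0) (h23 : T.a (v 2) (v 3) ≠ 0) :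
    T.a (v 0) (v 3) = 0 := by
  by_contra h03
  refine affine_false T v hn hv ![1, 1, 1, 1] ?_ ?_ ![{1, 3}, {0, 2}, {1, 3}, {0, 2}] ?_ ?_ ?_
  · intro j; fin_cases j <;> simp
  · intro h; have := congrFun h 0; simp at this
  · intro j; fin_cases j <;> simp
  · intro j _; fin_cases j <;> simp <;> tauto
  · intro j _; fin_cases j <;> simp [Finset.sum_insert]

/-- a chain of four cannot have multiple edges at both ends -/
theorem chain4_ends (v : Fin 4 ↪ Fin n) (hn : 4 < n) (hv : ∀ j, T.IsMinusTwo (v j))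
    (h01 : T.a (v 0) (v 1) ≠ 0) (h12 : T.a (v 1) (v 2) ≠ 0) (h23 : T.a (v 2) (v 3) ≠ 0)
    (hP01 : 2 ≤ cart T (v 1) (v 0) * cart T (v 0) (v 1))
    (hP23 : 2 ≤ cart T (v 2) (v 3) * cart T (v 3) (v 2)) : False := by
  obtain ⟨p01, p10⟩ := cart_pos_both T (v.injective.ne (by decide : (0 : Fin 4) ≠ 1)) h01
  obtain ⟨p12, p21⟩ := cart_pos_both T (v.injective.ne (by decide : (1 : Fin 4) ≠ 2)) h12
  obtain ⟨p23, p32⟩ := cart_pos_both T (v.injective.ne (by decide : (2 : Fin 4) ≠ 3)) h23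
  refine delta_cart T v hn hv ![cart T (v 0) (v 1), 2, 2, cart T (v 3) (v 2)] ?_ ?_
    ![{1}, {0, 2}, {1, 3}, {2}] ?_ ?_
  · intro j; fin_cases j <;> simp <;> omega
  · intro h; have := congrFun h 1; simp at this
  · intro j; fin_cases j <;> simp
  · intro j _
    fin_cases j
    · simp; linarith
    · simp [Finset.sum_insert]; linarith
    · simp [Finset.sum_insert]; linarith
    · simp; linarith

end Groth.Agent.Lib.Helper11
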