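import Groth.Agent.Lib.Helper11.NumTypeLong

/-!
Minimal numerical types of genus one: all indices are `(-2)`-indices; row sums in Cartan form
(helper11).
-/

set_option autoImplicit false
open Finset

namespace Groth.Agent.Lib.Helper11

open Models Models.NumericalType

variable {n : ℕ} (T : Models.NumericalType n)

theorem row_sum_cart (i : Fin n) : ∑ j, cart T i j * T.m j = 0 := by
  have h := row_sum T i
  have hw := T.w_pos i
  have e : ∑ j, T.a i j * T.m j = T.w i * ∑ j, cart T i j * T.m j := by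
    rw [Finset.mul_sum]
    refine Finset.sum_congr rfl fun l _ => ?_
    rw [← mul_assoc, w_mul_cart]
  rw [e] at h
  rcases mul_eq_zero.1 h with h1 | h1
  · omega
  · exact h1

/-- In a minimal numerical type of genus one with more than one index, every index is a
`(-2)`-index. -/
theorem all_minusTwo (hmin : T.IsMinimal) (hn : 1 < n) (hg : T.genus = 1) (i : Fin n) :
    T.IsMinusTwo i := by
  have h1 := two_mul_genus_ge T
  rw [sum_local_eq, hg] at h1
  have hnn : ∀ j ∈ (univ : Finset (Fin n)),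
      0 ≤ T.m j * (2 * T.w j * (T.g j - 1) - T.a j j) := fun j _ =>
    mul_nonneg (T.m_pos j).le (local_term_nonneg T hmin hn j)
  have hsum : ∑ j, T.m j * (2 * T.w j * (T.g j - 1) - T.a j j) = 0 :=
    le_antisymm (by linarith) (Finset.sum_nonneg hnn)
  have hi := (Finset.sum_eq_zero_iff_of_nonneg hnn).1 hsum i (mem_univ i)
  have hm := T.m_pos i
  have hloc : 2 * T.w i * (T.g i - 1) - T.a i i = 0 := by
    rcases mul_eq_zero.1 hi with h | h
    · omega
    · exact h
  have hneg := diag_neg T hn i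
  have hw := T.w_pos i
  have hg0 := T.g_nonneg i
  have hgi : T.g i = 0 := by
    by_contra hne
    have : 1 ≤ T.g i := by omega
    nlinarith
  refine ⟨hgi, ?_⟩
  rw [hgi] at hloc
  linarith

/-- embedding of three distinct indices -/
def tripleEmb {i j k : Fin n} (hij : i ≠ j) (hjk : j ≠ k) (hik : i ≠ k) : Fin 3 ↪ Fin n :=
  ⟨![i, j, k], by
    intro a b hab
    fin_cases a <;> fin_cases b <;> simp_all [eq_comm]⟩

theorem chain3' (hn : 3 < n) (hm2 : ∀ i, T.IsMinusTwo i) {i j k : Fin n} (hij : i ≠ j)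
    (hjk : j ≠ k) (hik : i ≠ k) (h1 : T.a i j ≠ 0) (h2 : T.a j k ≠ 0) :
    cart T j i * cart T i j + cart T j k * cart T k j ≤ 3 :=
  chain3 T (tripleEmb hij hjk hik) hn (fun _ => hm2 _) h1 h2

theorem no_triangle' (hn : 3 < n) (hm2 : ∀ i, T.IsMinusTwo i) {i j k : Fin n} (hij : i ≠ j)
    (hjk : j ≠ k) (hik : i ≠ k) (h1 : T.a i j ≠ 0) (h2 : T.a j k ≠ 0) : T.a i k = 0 :=
  no_triangle T (tripleEmb hij hjk hik) hn (fun _ => hm2 _) h1 h2

theorem chain2' (hn : 2 < n) (hm2 : ∀ i, T.IsMinusTwo i) {i j : Fin n} (hij : i ≠ j)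
    (h1 : T.a i j ≠ 0) : cart T j i * cart T i j ≤ 3 :=
  chain2 T (pairEmb hij) hn (fun _ => hm2 _) h1

end Groth.Agent.Lib.Helper11
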