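import Groth.Agent.Lib.Helper11.NumType

/-!
Kernel of the intersection matrix of a numerical type is spanned (rationally) by `m` (helper11).
-/

set_option autoImplicit false
open Finset

namespace Groth.Agent.Lib.Helper11

open Models Models.NumericalType

variable {n : ℕ} (T : Models.NumericalType n)

theorem col_sum (j : Fin n) : ∑ i, T.a i j * T.m i = 0 := by
  have h := row_sum T j
  rw [← h]
  exact Finset.sum_congr rfl fun i _ => by rw [a_symm T i j]

/-- The quadratic form identity. -/
theorem quad_identity (z : Fin n → ℚ) :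
    ∑ i, ∑ j, (T.a i j : ℚ) * T.m i * T.m j * (z i - z j) ^ 2
      = -2 * ∑ i, ∑ j, (T.a i j : ℚ) * (T.m i * z i) * (T.m j * z j) := by
  have h1 : ∑ i, ∑ j, (T.a i j : ℚ) * T.m i * T.m j * (z i) ^ 2 = 0 := by
    refine Finset.sum_eq_zero fun i _ => ?_
    have : ∑ j, (T.a i j : ℚ) * T.m i * T.m j * (z i) ^ 2
        = (T.m i * z i ^ 2) * ((∑ j, T.a i j * T.m j : ℤ) : ℚ) := by
      push_cast
      rw [Finset.mul_sum]
      exact Finset.sum_congr rfl fun j _ => by ring
    rw [this, row_sum T i]; simp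
  have h2 : ∑ i, ∑ j, (T.a i j : ℚ) * T.m i * T.m j * (z j) ^ 2 = 0 := by
    rw [Finset.sum_comm]
    refine Finset.sum_eq_zero fun j _ => ?_
    have : ∑ i, (T.a i j : ℚ) * T.m i * T.m j * (z j) ^ 2
        = (T.m j * z j ^ 2) * ((∑ i, T.a i j * T.m i : ℤ) : ℚ) := by
      push_cast
      rw [Finset.mul_sum]
      exact Finset.sum_congr rfl fun i _ => by ring
    rw [this, col_sum T j]; simp
  have h3 : ∑ i, ∑ j, (T.a i j : ℚ) * T.m i * T.m j * (z i - z j) ^ 2
      = ∑ i, ∑ j, (T.a i j : ℚ) * T.m i * T.m j * (z i) ^ 2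
        + ∑ i, ∑ j, (T.a i j : ℚ) * T.m i * T.m j * (z j) ^ 2
        + -2 * ∑ i, ∑ j, (T.a i j : ℚ) * (T.m i * z i) * (T.m j * z j) := by
    rw [Finset.mul_sum, ← Finset.sum_add_distrib, ← Finset.sum_add_distrib]
    refine Finset.sum_congr rfl fun i _ => ?_
    rw [Finset.mul_sum, ← Finset.sum_add_distrib, ← Finset.sum_add_distrib]
    exact Finset.sum_congr rfl fun j _ => by ring
  rw [h3, h1, h2]; ring

/-- If `A y = 0` (rationally) then `y i / m i` is constant along edges. -/
theorem ker_edge (z : Fin n → ℚ)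
    (hz : ∑ i, ∑ j, (T.a i j : ℚ) * (T.m i * z i) * (T.m j * z j) = 0)
    (i j : Fin n) (hij : T.a i j ≠ 0) : z i = z j := by
  have hq := quad_identity T z
  rw [hz, mul_zero] at hq
  have hnonneg : ∀ i j, 0 ≤ (T.a i j : ℚ) * T.m i * T.m j * (z i - z j) ^ 2 := by
    intro i j
    by_cases h : i = j
    · subst h; simp
    · have h1 : (0 : ℚ) ≤ T.a i j := by exact_mod_cast T.offDiag_nonneg i j h
      have h2 : (0 : ℚ) < T.m i := by exact_mod_cast T.m_pos i
      have h3 : (0 : ℚ) < T.m j := by exact_mod_cast T.m_pos j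
      positivity
  have h1 := (Finset.sum_eq_zero_iff_of_nonneg
    (fun i _ => Finset.sum_nonneg fun j _ => hnonneg i j)).1 hq i (mem_univ i)
  have h2 := (Finset.sum_eq_zero_iff_of_nonneg (fun j _ => hnonneg i j)).1 h1 j (mem_univ j)
  have hm1 : (T.m i : ℚ) ≠ 0 := by exact_mod_cast (T.m_pos i).ne'
  have hm2 : (T.m j : ℚ) ≠ 0 := by exact_mod_cast (T.m_pos j).ne'
  have ha : (T.a i j : ℚ) ≠ 0 := by exact_mod_cast hij
  have : (z i - z j) ^ 2 = 0 := by
    rcases mul_eq_zero.1 h2 with h | h
    · exact absurd h (mul_ne_zero (mul_ne_zero ha hm1) hm2)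
    · exact h
  have := pow_eq_zero_iff (two_ne_zero) |>.1 this
  linarith

/-- A function constant along edges is constant (connectedness). -/
theorem const_of_edge {α : Type*} (z : Fin n → α) (hz : ∀ i j, T.a i j ≠ 0 → z i = z j)
    (i j : Fin n) : z i = z j := by
  classical
  by_contra hne
  let I : Finset (Fin n) := univ.filter fun k => z k = z i
  have hI : I.Nonempty := ⟨i, by simp [I]⟩
  have hI' : I ≠ univ := by
    intro h
    have : j ∈ I := by rw [h]; exact mem_univ j
    simp only [I, mem_filter, mem_univ, true_and] at this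
    exact hne this.symm
  obtain ⟨k, hk, l, hl, hkl⟩ := T.connected I hI hI'
  simp only [I, mem_filter, mem_univ, true_and] at hk hl
  exact hl ((hz k l hkl).symm.trans hk)

/-- Integer kernel vectors of `a` are proportional to `m`. -/
theorem ker_proportional (y : Fin n → ℤ) (hy : T.a.mulVec y = 0) (i j : Fin n) :
    y i * T.m j = y j * T.m i := by
  set z : Fin n → ℚ := fun i => (y i : ℚ) / (T.m i : ℚ) with hzdef
  have hm : ∀ i, (T.m i : ℚ) ≠ 0 := fun i => by exact_mod_cast (T.m_pos i).ne'
  have hmz : ∀ i, (T.m i : ℚ) * z i = y i := fun i => by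
    simp only [hzdef]; exact mul_div_cancel₀ _ (hm i)
  have hz : ∑ i, ∑ j, (T.a i j : ℚ) * (T.m i * z i) * (T.m j * z j) = 0 := by
    refine Finset.sum_eq_zero fun i _ => ?_
    have hi : ∑ j, T.a i j * y j = 0 := by
      have := congrFun hy i
      simpa [Matrix.mulVec, dotProduct] using this
    have : ∑ j, (T.a i j : ℚ) * (T.m i * z i) * (T.m j * z j)
        = (y i : ℚ) * ((∑ j, T.a i j * y j : ℤ) : ℚ) := by
      push_cast
      rw [Finset.mul_sum]
      refine Finset.sum_congr rfl fun j _ => ?_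
      rw [hmz, hmz]; ring
    rw [this, hi]; simp
  have hconst := const_of_edge T z (ker_edge T z hz) i j
  simp only [hzdef] at hconst
  rw [div_eq_div_iff (hm i) (hm j)] at hconst
  exact_mod_cast hconst

theorem w_mul_picMatrix_mulVec (y : Fin n → ℤ) (i : Fin n) :
    T.w i * (T.picMatrix.mulVec y) i = (T.a.mulVec y) i := by
  simp only [Matrix.mulVec, dotProduct, Finset.mul_sum]
  refine Finset.sum_congr rfl fun j _ => ?_
  rw [← mul_assoc]
  congr 1
  exact Int.mul_ediv_cancel' (T.w_dvd i j)

theorem picMatrix_mulVec_eq_zero_iff (y : Fin n → ℤ) :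
    T.picMatrix.mulVec y = 0 ↔ T.a.mulVec y = 0 := by
  constructor
  · intro h
    funext i
    rw [← w_mul_picMatrix_mulVec, h]; simp
  · intro h
    funext i
    have := w_mul_picMatrix_mulVec T y i
    rw [h] at this
    rcases mul_eq_zero.1 this with h' | h'
    · exact absurd h' (T.w_pos i).ne'
    · exact h'

theorem m_mem_ker : T.m ∈ LinearMap.ker (Matrix.mulVecLin T.picMatrix) := by
  rw [LinearMap.mem_ker, Matrix.mulVecLin_apply, picMatrix_mulVec_eq_zero_iff]
  exact T.mulVec_m

theorem finrank_ker_picMatrix :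
    Module.finrank ℤ (LinearMap.ker (Matrix.mulVecLin T.picMatrix)) = 1 := by
  set K := LinearMap.ker (Matrix.mulVecLin T.picMatrix) with hK
  let i₀ : Fin n := ⟨0, T.pos⟩
  apply le_antisymm
  · -- injective map K → ℤ
    let e : K →ₗ[ℤ] ℤ := (LinearMap.proj i₀).comp K.subtype
    have he : Function.Injective e := by
      rw [injective_iff_map_eq_zero]
      rintro ⟨y, hy⟩ h0
      have h0' : y i₀ = 0 := h0
      rw [hK, LinearMap.mem_ker, Matrix.mulVecLin_apply, picMatrix_mulVec_eq_zero_iff] at hy
      ext i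
      have := ker_proportional T y hy i i₀
      rw [h0', zero_mul] at this
      rcases mul_eq_zero.1 this with h' | h'
      · exact h'
      · exact absurd h' (T.m_pos i₀).ne'
    have := LinearMap.finrank_le_finrank_of_injective he
    simpa using this
  · let e : ℤ →ₗ[ℤ] K := LinearMap.toSpanSingleton ℤ K ⟨T.m, m_mem_ker T⟩
    have he : Function.Injective e := by
      rw [injective_iff_map_eq_zero]
      intro c hc
      have hc' : c • (⟨T.m, m_mem_ker T⟩ : K) = 0 := hc
      have := congrArg (fun v : K => (v : Fin n → ℤ) i₀) hc'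
      simp only [Submodule.coe_smul, Pi.smul_apply, smul_eq_mul, Submodule.coe_zero,
        Pi.zero_apply] at this
      rcases mul_eq_zero.1 this with h' | h'
      · exact h'
      · exact absurd h' (T.m_pos i₀).ne'
    have := LinearMap.finrank_le_finrank_of_injective he
    simpa using this

theorem finrank_pic : Module.finrank ℤ T.Pic = 1 := by
  have h0 := (Matrix.mulVecLin T.picMatrix).quotKerEquivRange.finrank_eq
  have h1 := Submodule.finrank_quotient_add_finrank
    (LinearMap.ker (Matrix.mulVecLin T.picMatrix))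
  rw [h0] at h1
  have h2 := Submodule.finrank_quotient_add_finrank
    (LinearMap.range (Matrix.mulVecLin T.picMatrix))
  rw [finrank_ker_picMatrix] at h1
  have h3 : Module.finrank ℤ (Fin n → ℤ) = n := by simp
  rw [h3] at h1 h2
  change Module.finrank ℤ ((Fin n → ℤ) ⧸ LinearMap.range (Matrix.mulVecLin T.picMatrix)) = 1
  omega

end Groth.Agent.Lib.Helper11
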