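import Groth.Agent.Lib.Helper11.NumTypeChain

/-!
Chains of arbitrary length among `(-2)`-indices in a proper sub-configuration (helper11).
-/

set_option autoImplicit false
open Finset

namespace Groth.Agent.Lib.Helper11

open Models Models.NumericalType

variable {n : ℕ} (T : Models.NumericalType n)

/-- A chain has no chords. -/
theorem no_chord {t : ℕ} (v : Fin t ↪ Fin n) (ht : t < n) (hv : ∀ j, T.IsMinusTwo (v j))
    (hchain : ∀ j j' : Fin t, j'.val = j.val + 1 → T.a (v j) (v j') ≠ 0)
    (j k : Fin t) (hjk : j.val + 1 < k.val) : T.a (v j) (v k) = 0 := by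
  by_contra hne
  let c : Fin t → ℤ := fun l => if j.val ≤ l.val ∧ l.val ≤ k.val then 1 else 0
  have c1 : ∀ l : Fin t, j.val ≤ l.val → l.val ≤ k.val → c l = 1 := fun l h1 h2 =>
    if_pos ⟨h1, h2⟩
  refine affine_false_list T v ht hv c ?_ ?_ ?_
  · intro l; simp only [c]; split_ifs <;> norm_num
  · intro h
    have := congrFun h j
    rw [c1 j le_rfl (by omega)] at this
    simp at this
  · intro l hl
    have hl' : j.val ≤ l.val ∧ l.val ≤ k.val := by
      by_contra hcon
      exact hl (if_neg hcon)
    obtain ⟨lv, hlv⟩ := l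
    obtain ⟨jv, hjv⟩ := j
    obtain ⟨kv, hkv⟩ := k
    simp only at hl' hjk
    by_cases e1 : lv = jv
    · subst e1
      refine ⟨[⟨lv + 1, by omega⟩, ⟨kv, hkv⟩], ?_, ?_, ?_, ?_⟩
      · simp [Fin.ext_iff] <;> omega
      · simp [Fin.ext_iff] <;> omega
      · intro j' hj'
        simp only [List.mem_cons, List.not_mem_nil, or_false] at hj'
        rcases hj' with rfl | rfl
        · exact Or.inl (hchain _ _ rfl)
        · exact Or.inl hne
      · rw [c1 _ (by simp) (by simp <;> omega)]
        simp only [List.map_cons, List.map_nil, List.sum_cons, List.sum_nil]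
        rw [c1 _ (by simp) (by simp <;> omega), c1 _ (by simp <;> omega) (by simp)]
        norm_num
    by_cases e2 : lv = kv
    · subst e2
      refine ⟨[⟨lv - 1, by omega⟩, ⟨jv, hjv⟩], ?_, ?_, ?_, ?_⟩
      · simp [Fin.ext_iff] <;> omega
      · simp [Fin.ext_iff] <;> omega
      · intro j' hj'
        simp only [List.mem_cons, List.not_mem_nil, or_false] at hj'
        rcases hj' with rfl | rfl
        · exact Or.inr (hchain _ _ (by simp <;> omega))
        · exact Or.inr hne
      · rw [c1 _ (by simp <;> omega) (by simp)]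
        simp only [List.map_cons, List.map_nil, List.sum_cons, List.sum_nil]
        rw [c1 _ (by simp <;> omega) (by simp), c1 _ (by simp) (by simp <;> omega)]
        norm_num
    · refine ⟨[⟨lv - 1, by omega⟩, ⟨lv + 1, by omega⟩], ?_, ?_, ?_, ?_⟩
      · simp [Fin.ext_iff] <;> omega
      · simp [Fin.ext_iff] <;> omega
      · intro j' hj'
        simp only [List.mem_cons, List.not_mem_nil, or_false] at hj'
        rcases hj' with rfl | rfl
        · exact Or.inr (hchain _ _ (by simp <;> omega))
        · exact Or.inl (hchain _ _ rfl)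
      · rw [c1 _ (by simp <;> omega) (by simp <;> omega)]
        simp only [List.map_cons, List.map_nil, List.sum_cons, List.sum_nil]
        rw [c1 _ (by simp <;> omega) (by simp <;> omega), c1 _ (by simp <;> omega) (by simp <;> omega)]
        norm_num

/-- A chain (of at least four vertices) cannot have multiple edges at both ends. -/
theorem chain_ends {t : ℕ} (v : Fin t ↪ Fin n) (ht4 : 4 ≤ t) (ht : t < n)
    (hv : ∀ j, T.IsMinusTwo (v j))
    (hchain : ∀ j j' : Fin t, j'.val = j.val + 1 → T.a (v j) (v j') ≠ 0)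
    (i0 i1 il' il : Fin t) (h0 : i0.val = 0) (h1 : i1.val = 1) (hl' : il'.val + 2 = t)
    (hl : il.val + 1 = t)
    (hP0 : 2 ≤ cart T (v i1) (v i0) * cart T (v i0) (v i1))
    (hPl : 2 ≤ cart T (v il') (v il) * cart T (v il) (v il')) : False := by
  have pos : ∀ j j' : Fin t, j'.val = j.val + 1 →
      1 ≤ cart T (v j) (v j') ∧ 1 ≤ cart T (v j') (v j) := fun j j' h =>
    cart_pos_both T (v.injective.ne (fun e => by rw [e] at h; omega)) (hchain j j' h)
  let c : Fin t → ℤ := fun l =>
    if l.val = 0 then cart T (v i0) (v i1) else if l.val + 1 = t then cart T (v il) (v il') else 2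
  have c0 : c i0 = cart T (v i0) (v i1) := if_pos h0
  have cl : c il = cart T (v il) (v il') := by
    simp only [c]; rw [if_neg (by omega), if_pos hl]
  have c2 : ∀ l : Fin t, 1 ≤ l.val → l.val + 2 ≤ t → c l = 2 := by
    intro l h1 h2
    simp only [c]; rw [if_neg (by omega), if_neg (by omega)]
  have p01 := pos i0 i1 (by omega)
  have pl := pos il' il (by omega)
  refine delta_cart_list T v ht hv c ?_ ?_ ?_
  · intro l
    simp only [c]
    split_ifs
    · linarith [p01.1]
    · linarith [pl.2]
    · norm_num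
  · intro h
    have := congrFun h i1
    rw [c2 i1 (by omega) (by omega)] at this
    simp at this
  · intro l _
    by_cases e0 : l.val = 0
    · obtain rfl : l = i0 := Fin.ext (by omega)
      refine ⟨[i1], List.nodup_singleton _, ?_, ?_⟩
      · simp [Fin.ext_iff] <;> omega
      · rw [c0]
        simp only [List.map_cons, List.map_nil, List.sum_cons, List.sum_nil]
        rw [c2 i1 (by omega) (by omega)]
        linarith
    by_cases e1 : l.val = 1
    · obtain rfl : l = i1 := Fin.ext (by omega)
      have p12 := pos l ⟨2, by omega⟩ (by simp <;> omega)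
      refine ⟨[i0, ⟨2, by omega⟩], ?_, ?_, ?_⟩
      · simp [Fin.ext_iff] <;> omega
      · simp [Fin.ext_iff] <;> omega
      · rw [c2 l (by omega) (by omega)]
        simp only [List.map_cons, List.map_nil, List.sum_cons, List.sum_nil]
        rw [c0, c2 ⟨2, by omega⟩ (by simp) (by simp <;> omega)]
        linarith [p12.1]
    by_cases e2 : l.val + 1 = t
    · obtain rfl : l = il := Fin.ext (by omega)
      refine ⟨[il'], List.nodup_singleton _, ?_, ?_⟩
      · simp [Fin.ext_iff] <;> omega
      · rw [cl]
        simp only [List.map_cons, List.map_nil, List.sum_cons, List.sum_nil]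
        rw [c2 il' (by omega) (by omega)]
        linarith
    by_cases e3 : l.val + 2 = t
    · obtain rfl : l = il' := Fin.ext (by omega)
      have pprev := pos ⟨l.val - 1, by omega⟩ l (by simp <;> omega)
      refine ⟨[⟨l.val - 1, by omega⟩, il], ?_, ?_, ?_⟩
      · simp [Fin.ext_iff] <;> omega
      · simp [Fin.ext_iff] <;> omega
      · rw [c2 l (by omega) (by omega)]
        simp only [List.map_cons, List.map_nil, List.sum_cons, List.sum_nil]
        rw [cl, c2 ⟨l.val - 1, by omega⟩ (by simp <;> omega) (by simp <;> omega)]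
        linarith [pprev.2]
    · have pprev := pos ⟨l.val - 1, by omega⟩ l (by simp <;> omega)
      have pnext := pos l ⟨l.val + 1, by omega⟩ (by simp)
      refine ⟨[⟨l.val - 1, by omega⟩, ⟨l.val + 1, by omega⟩], ?_, ?_, ?_⟩
      · simp [Fin.ext_iff] <;> omega
      · simp [Fin.ext_iff] <;> omega
      · rw [c2 l (by omega) (by omega)]
        simp only [List.map_cons, List.map_nil, List.sum_cons, List.sum_nil]
        rw [c2 ⟨l.val - 1, by omega⟩ (by simp <;> omega) (by simp <;> omega),
          c2 ⟨l.val + 1, by omega⟩ (by simp) (by simp <;> omega)]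
        linarith [pprev.2, pnext.1]

/-- In a chain of five the two middle edges are simple. -/
theorem chain5_mid (v : Fin 5 ↪ Fin n) (hn : 5 < n) (hv : ∀ j, T.IsMinusTwo (v j))
    (h01 : T.a (v 0) (v 1) ≠ 0) (h12 : T.a (v 1) (v 2) ≠ 0) (h23 : T.a (v 2) (v 3) ≠ 0)
    (h34 : T.a (v 3) (v 4) ≠ 0) : cart T (v 1) (v 2) = 1 ∧ cart T (v 2) (v 1) = 1 := by
  obtain ⟨p01, p10⟩ := cart_pos_both T (v.injective.ne (by decide : (0 : Fin 5) ≠ 1)) h01
  obtain ⟨p12, p21⟩ := cart_pos_both T (v.injective.ne (by decide : (1 : Fin 5) ≠ 2)) h12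
  obtain ⟨p23, p32⟩ := cart_pos_both T (v.injective.ne (by decide : (2 : Fin 5) ≠ 3)) h23
  obtain ⟨p34, p43⟩ := cart_pos_both T (v.injective.ne (by decide : (3 : Fin 5) ≠ 4)) h34
  have key1 : cart T (v 1) (v 2) ≤ 1 := by
    by_contra hcon
    push Not at hcon
    refine delta_cart T v hn hv ![2, 4, 3, 2, 1] ?_ ?_
      ![{1}, {0, 2}, {1, 3}, {2, 4}, {3}] ?_ ?_
    · intro j; fin_cases j <;> simp
    · intro h; have := congrFun h 0; simp at this
    · intro j; fin_cases j <;> simp
    · intro j _
      fin_cases j <;> simp [Finset.sum_insert] <;> linarith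
  have key2 : cart T (v 2) (v 1) ≤ 1 := by
    by_contra hcon
    push Not at hcon
    refine delta_cart T v hn hv ![1, 2, 3, 2, 1] ?_ ?_
      ![{1}, {0, 2}, {1, 3}, {2, 4}, {3}] ?_ ?_
    · intro j; fin_cases j <;> simp
    · intro h; have := congrFun h 0; simp at this
    · intro j; fin_cases j <;> simp
    · intro j _
      fin_cases j <;> simp [Finset.sum_insert] <;> linarith
  constructor <;> omega

/-- `delta_num T v hn hv c nb i`: close a goal `False` by the delta argument with explicit
numeric vector `c`, neighbour lists `nb` and an index `i` with `c i ≠ 0`; the row inequalities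
are discharged by `linarith` from the context. -/
macro "delta_num " T:term:max v:term:max hn:term:max hv:term:max c:term:max nb:term:max
    i:term:max : tactic =>
  `(tactic| (refine Groth.Agent.Lib.Helper11.delta_cart $T $v $hn $hv $c ?_ ?_ $nb ?_ ?_
             · intro j; fin_cases j <;> simp
             · intro h; have := congrFun h $i; simp at this
             · intro j; fin_cases j <;> simp
             · intro j hj
               fin_cases j <;>
                first
                | (exfalso; simp at hj; done)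
                | (simp [Finset.sum_insert]; linarith)
                | (simp [Finset.sum_insert]; done)))

/-- In a chain of five the two middle edges are simple (second middle edge). -/
theorem chain5_mid' (v : Fin 5 ↪ Fin n) (hn : 5 < n) (hv : ∀ j, T.IsMinusTwo (v j))
    (h01 : T.a (v 0) (v 1) ≠ 0) (h12 : T.a (v 1) (v 2) ≠ 0) (h23 : T.a (v 2) (v 3) ≠ 0)
    (h34 : T.a (v 3) (v 4) ≠ 0) : cart T (v 2) (v 3) = 1 ∧ cart T (v 3) (v 2) = 1 := by
  have hrev := chain5_mid T (subEmb v ![4, 3, 2, 1, 0] (by decide)) hn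
      (by intro l; exact hv _)
      (by simpa [a_symm T (v 4) (v 3)] using h34)
      (by simpa [a_symm T (v 3) (v 2)] using h23)
      (by simpa [a_symm T (v 2) (v 1)] using h12)
      (by simpa [a_symm T (v 1) (v 0)] using h01)
  simp only [subEmb_apply, Matrix.cons_val_zero, Matrix.cons_val_one, Matrix.cons_val] at hrev
  exact ⟨hrev.2, hrev.1⟩

/-- consecutive sub-chain of length `l` starting at `s` -/
def window {t : ℕ} (v : Fin t ↪ Fin n) (l s : ℕ) (h : s + l ≤ t) : Fin l ↪ Fin n :=
  subEmb v (fun x : Fin l => ⟨s + x.val, by omega⟩) (by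
    intro x y hxy
    simp only [Fin.mk.injEq] at hxy
    exact Fin.ext (by omega))

theorem window_apply {t : ℕ} (v : Fin t ↪ Fin n) (l s : ℕ) (h : s + l ≤ t) (x : Fin l) :
    window v l s h x = v ⟨s + x.val, by omega⟩ := rfl

/-- Internal edges of a chain of at least five vertices are simple. -/
theorem chain_internal {t : ℕ} (v : Fin t ↪ Fin n) (ht5 : 5 ≤ t) (ht : t < n)
    (hv : ∀ j, T.IsMinusTwo (v j))
    (hchain : ∀ j j' : Fin t, j'.val = j.val + 1 → T.a (v j) (v j') ≠ 0)
    (j j' : Fin t) (hj : 1 ≤ j.val) (hjj' : j'.val = j.val + 1) (hlt : j'.val + 1 < t) :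
    cart T (v j) (v j') = 1 ∧ cart T (v j') (v j) = 1 := by
  by_cases hcase : j.val + 3 < t
  · -- window starting at j - 1
    have hw : (j.val - 1) + 5 ≤ t := by omega
    have := chain5_mid T (window v 5 (j.val - 1) hw) (by omega) (fun l => hv _)
      (hchain _ _ (by simp)) (hchain _ _ (by simp)) (hchain _ _ (by simp)) (hchain _ _ (by simp))
    simp only [window_apply] at this
    have e1 : (⟨j.val - 1 + ((1 : Fin 5) : ℕ), by omega⟩ : Fin t) = j := Fin.ext (by simp; omega)
    have e2 : (⟨j.val - 1 + ((2 : Fin 5) : ℕ), by omega⟩ : Fin t) = j' := Fin.ext (by simp; omega)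
    rw [e1, e2] at this
    exact this
  · have hw : (j.val - 2) + 5 ≤ t := by omega
    have := chain5_mid' T (window v 5 (j.val - 2) hw) (by omega) (fun l => hv _)
      (hchain _ _ (by simp)) (hchain _ _ (by simp)) (hchain _ _ (by simp)) (hchain _ _ (by simp))
    simp only [window_apply] at this
    have e1 : (⟨j.val - 2 + ((2 : Fin 5) : ℕ), by omega⟩ : Fin t) = j := Fin.ext (by simp; omega)
    have e2 : (⟨j.val - 2 + ((3 : Fin 5) : ℕ), by omega⟩ : Fin t) = j' := Fin.ext (by simp; omega)
    rw [e1, e2] at this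
    exact this

/-- Classification of a long chain whose first edge is simple. -/
theorem chain_forward {t : ℕ} (v : Fin t ↪ Fin n) (ht5 : 5 ≤ t) (ht : t < n)
    (hv : ∀ j, T.IsMinusTwo (v j))
    (hchain : ∀ j j' : Fin t, j'.val = j.val + 1 → T.a (v j) (v j') ≠ 0)
    (i0 i1 : Fin t) (h0 : i0.val = 0) (h1 : i1.val = 1)
    (hfirst : cart T (v i0) (v i1) = 1 ∧ cart T (v i1) (v i0) = 1) :
    ∃ w : ℤ, (∀ j k : Fin t, j.val + 1 < k.val → T.a (v j) (v k) = 0) ∧
      ((∀ j : Fin t, T.w (v j) = w) ∧
          (∀ j j' : Fin t, j'.val = j.val + 1 → T.a (v j) (v j') = w) ∨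
        ((∀ j : Fin t, j.val + 1 < t → T.w (v j) = w) ∧
          (∀ j : Fin t, j.val + 1 = t → T.w (v j) = 2 * w) ∧
          (∀ j j' : Fin t, j'.val = j.val + 1 → j'.val + 1 < t → T.a (v j) (v j') = w) ∧
          (∀ j j' : Fin t, j'.val = j.val + 1 → j'.val + 1 = t → T.a (v j) (v j') = 2 * w)) ∨
        ((∀ j : Fin t, j.val + 1 < t → T.w (v j) = 2 * w) ∧
          (∀ j : Fin t, j.val + 1 = t → T.w (v j) = w) ∧
          (∀ j j' : Fin t, j'.val = j.val + 1 → T.a (v j) (v j') = 2 * w))) := by
  have hnc := no_chord T v ht hv hchain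
  have simple : ∀ j j' : Fin t, j'.val = j.val + 1 → j'.val + 1 < t →
      cart T (v j) (v j') = 1 ∧ cart T (v j') (v j) = 1 := by
    intro j j' hjj' hlt
    by_cases hj0 : j.val = 0
    · obtain rfl : j = i0 := Fin.ext (by omega)
      obtain rfl : j' = i1 := Fin.ext (by omega)
      exact hfirst
    · exact chain_internal T v ht5 ht hv hchain j j' (by omega) hjj' hlt
  have wconst : ∀ m : ℕ, ∀ j : Fin t, j.val = m → j.val + 1 < t → T.w (v j) = T.w (v i0) := by
    intro m
    induction m with
    | zero =>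
      intro j hj _
      rw [show j = i0 from Fin.ext (by omega)]
    | succ m ih =>
      intro j hj hlt
      have hprev := ih ⟨m, by omega⟩ rfl (by simp; omega)
      have hs := simple ⟨m, by omega⟩ j (by simp; omega) hlt
      have := w_cart_symm T (v ⟨m, by omega⟩) (v j)
      rw [hs.1, hs.2] at this
      linarith
  have wconst' : ∀ j : Fin t, j.val + 1 < t → T.w (v j) = T.w (v i0) := fun j h =>
    wconst j.val j rfl h
  have aconst : ∀ j j' : Fin t, j'.val = j.val + 1 → j'.val + 1 < t →
      T.a (v j) (v j') = T.w (v i0) := by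
    intro j j' hjj' hlt
    have := w_mul_cart T (v j) (v j')
    rw [(simple j j' hjj' hlt).1, wconst' j (by omega)] at this
    linarith
  -- the last edge
  let il' : Fin t := ⟨t - 2, by omega⟩
  let il : Fin t := ⟨t - 1, by omega⟩
  have hl'l : il.val = il'.val + 1 := by simp only [il, il']; omega
  obtain ⟨pl, pl'⟩ := cart_pos_both T (v.injective.ne (fun e => by rw [e] at hl'l; omega))
    (hchain il' il hl'l)
  have hlast : cart T (v il') (v il) * cart T (v il) (v il') ≤ 2 := by
    have hw : (t - 3) + 3 ≤ t := by omega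
    have := chain3 T (window v 3 (t - 3) hw) (by omega) (fun l => hv _)
      (hchain _ _ (by simp)) (hchain _ _ (by simp))
    simp only [window_apply] at this
    have e0 : (⟨t - 3 + ((0 : Fin 3) : ℕ), by omega⟩ : Fin t) = ⟨t - 3, by omega⟩ :=
      Fin.ext (by simp)
    have e1 : (⟨t - 3 + ((1 : Fin 3) : ℕ), by omega⟩ : Fin t) = il' := Fin.ext (by simp [il']; omega)
    have e2 : (⟨t - 3 + ((2 : Fin 3) : ℕ), by omega⟩ : Fin t) = il := Fin.ext (by simp [il]; omega)
    rw [e0, e1, e2] at this
    have hs := simple ⟨t - 3, by omega⟩ il' (by simp [il']; omega) (by simp [il']; omega)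
    rw [hs.1, hs.2] at this
    linarith
  have hwl := w_cart_symm T (v il') (v il)
  have hal := w_mul_cart T (v il') (v il)
  have hwl' := wconst' il' (by simp only [il']; omega)
  have islast : ∀ j : Fin t, j.val + 1 = t → j = il := fun j h => Fin.ext (by simp only [il]; omega)
  have isprev : ∀ j j' : Fin t, j'.val = j.val + 1 → j'.val + 1 = t → j = il' ∧ j' = il :=
    fun j j' h h' => ⟨Fin.ext (by simp only [il']; omega), Fin.ext (by simp only [il]; omega)⟩
  rcases pair_cases_two pl pl' hlast with ⟨e1, e2⟩ | ⟨e1, e2⟩ | ⟨e1, e2⟩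
  · -- type A
    rw [e1, e2] at hwl
    rw [e1] at hal
    refine ⟨T.w (v i0), hnc, Or.inl ⟨?_, ?_⟩⟩
    · intro j
      by_cases hj : j.val + 1 < t
      · exact wconst' j hj
      · rw [islast j (by omega)]; linarith
    · intro j j' hjj'
      by_cases hj : j'.val + 1 < t
      · exact aconst j j' hjj' hj
      · obtain ⟨rfl, rfl⟩ := isprev j j' hjj' (by omega)
        linarith
  · -- cart il' il = 1, cart il il' = 2 : w il' = 2 w il : type B
    rw [e1, e2] at hwl
    rw [e1] at hal
    refine ⟨T.w (v il), hnc, Or.inr (Or.inr ⟨?_, ?_, ?_⟩)⟩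
    · intro j hj
      rw [wconst' j hj]; linarith
    · intro j hj
      rw [islast j hj]
    · intro j j' hjj'
      by_cases hj : j'.val + 1 < t
      · rw [aconst j j' hjj' hj]; linarith
      · obtain ⟨rfl, rfl⟩ := isprev j j' hjj' (by omega)
        linarith
  · -- cart il' il = 2, cart il il' = 1 : 2 w il' = w il : type C
    rw [e1, e2] at hwl
    rw [e1] at hal
    refine ⟨T.w (v i0), hnc, Or.inr (Or.inl ⟨?_, ?_, ?_, ?_⟩)⟩
    · intro j hj
      exact wconst' j hj
    · intro j hj
      rw [islast j hj]; linarith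
    · intro j j' hjj' hj
      exact aconst j j' hjj' hj
    · intro j j' hjj' hj
      obtain ⟨rfl, rfl⟩ := isprev j j' hjj' hj
      linarith

/-- `no_chord` with the chain hypothesis in a form convenient for `fin_cases`. -/
theorem no_chord' {t : ℕ} (v : Fin t ↪ Fin n) (ht : t < n) (hv : ∀ j, T.IsMinusTwo (v j))
    (hchain : ∀ j : Fin t, ∀ h : j.val + 1 < t,
      T.a (v j) (v ⟨j.val + 1, h⟩) ≠ 0 ∨ T.a (v ⟨j.val + 1, h⟩) (v j) ≠ 0)
    (j k : Fin t) (hjk : j.val + 1 < k.val) : T.a (v j) (v k) = 0 := by
  refine no_chord T v ht hv (fun j j' h => ?_) j k hjk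
  have hlt : j.val + 1 < t := by have := j'.isLt; omega
  obtain rfl : j' = ⟨j.val + 1, hlt⟩ := Fin.ext h
  rcases hchain j hlt with h1 | h1
  · exact h1
  · rwa [a_symm]

theorem nodup2 {k : ℕ} (a b : Fin k) (h : a.val ≠ b.val) : [a, b].Nodup := by
  simp only [List.nodup_cons, List.mem_cons, List.not_mem_nil, or_false, not_false_eq_true,
    List.nodup_nil, and_true]
  exact fun e => h (by rw [e])

theorem nodup3 {k : ℕ} (a b c : Fin k) (hab : a.val ≠ b.val) (hac : a.val ≠ c.val)
    (hbc : b.val ≠ c.val) : [a, b, c].Nodup := by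
  simp only [List.nodup_cons, List.mem_cons, List.not_mem_nil, or_false, not_false_eq_true,
    List.nodup_nil, and_true, not_or]
  exact ⟨⟨fun e => hab (by rw [e]), fun e => hac (by rw [e])⟩, fun e => hbc (by rw [e])⟩

theorem notmem1 {k : ℕ} (x a : Fin k) (h : x.val ≠ a.val) : x ∉ [a] := by
  simp only [List.mem_cons, List.not_mem_nil, or_false]
  exact fun e => h (by rw [e])

theorem notmem2 {k : ℕ} (x a b : Fin k) (ha : x.val ≠ a.val) (hb : x.val ≠ b.val) :
    x ∉ [a, b] := by
  simp only [List.mem_cons, List.not_mem_nil, or_false, not_or]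
  exact ⟨fun e => ha (by rw [e]), fun e => hb (by rw [e])⟩

theorem notmem3 {k : ℕ} (x a b c : Fin k) (ha : x.val ≠ a.val) (hb : x.val ≠ b.val)
    (hc : x.val ≠ c.val) : x ∉ [a, b, c] := by
  simp only [List.mem_cons, List.not_mem_nil, or_false, not_or]
  exact ⟨fun e => ha (by rw [e]), fun e => hb (by rw [e]), fun e => hc (by rw [e])⟩

end Groth.Agent.Lib.Helper11
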