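import Groth.Agent.Lib.Helper11.NumTypeKer
import Mathlib.Tactic.Linarith
import Mathlib.Tactic.Ring
import Mathlib.Tactic.FinCases
import Mathlib.Tactic.IntervalCases

/-!
Negative (semi)definiteness of the intersection matrix of a numerical type, the
"delta argument" on proper sub-configurations, and basic facts on `(-2)`-indices (helper11).
-/

set_option autoImplicit false
open Finset

namespace Groth.Agent.Lib.Helper11

open Models Models.NumericalType

variable {n : ℕ} (T : Models.NumericalType n)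

/-- The intersection form is negative semi-definite. -/
theorem quad_nonpos (y : Fin n → ℤ) : ∑ i, ∑ j, T.a i j * y i * y j ≤ 0 := by
  set z : Fin n → ℚ := fun i => (y i : ℚ) / (T.m i : ℚ) with hzdef
  have hm : ∀ i, (T.m i : ℚ) ≠ 0 := fun i => by exact_mod_cast (T.m_pos i).ne'
  have hmz : ∀ i, (T.m i : ℚ) * z i = y i := fun i => by
    simp only [hzdef]; exact mul_div_cancel₀ _ (hm i)
  have hq := quad_identity T z
  have hnonneg : ∀ i j, 0 ≤ (T.a i j : ℚ) * T.m i * T.m j * (z i - z j) ^ 2 := by
    intro i j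
    by_cases h : i = j
    · subst h; simp
    · have h1 : (0 : ℚ) ≤ T.a i j := by exact_mod_cast T.offDiag_nonneg i j h
      have h2 : (0 : ℚ) ≤ T.m i := by exact_mod_cast (T.m_pos i).le
      have h3 : (0 : ℚ) ≤ T.m j := by exact_mod_cast (T.m_pos j).le
      positivity
  have hL : 0 ≤ ∑ i, ∑ j, (T.a i j : ℚ) * T.m i * T.m j * (z i - z j) ^ 2 :=
    Finset.sum_nonneg fun i _ => Finset.sum_nonneg fun j _ => hnonneg i j
  have hR : ∑ i, ∑ j, (T.a i j : ℚ) * (T.m i * z i) * (T.m j * z j)
      = ((∑ i, ∑ j, T.a i j * y i * y j : ℤ) : ℚ) := by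
    push_cast
    refine Finset.sum_congr rfl fun i _ => Finset.sum_congr rfl fun j _ => ?_
    rw [hmz, hmz]
  rw [hR] at hq
  have : ((∑ i, ∑ j, T.a i j * y i * y j : ℤ) : ℚ) ≤ 0 := by linarith
  exact_mod_cast this

/-- If the quadratic form vanishes at `y`, then `y` is proportional to `m`. -/
theorem quad_eq_zero_proportional (y : Fin n → ℤ) (h0 : ∑ i, ∑ j, T.a i j * y i * y j = 0)
    (i j : Fin n) : y i * T.m j = y j * T.m i := by
  set z : Fin n → ℚ := fun i => (y i : ℚ) / (T.m i : ℚ) with hzdef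
  have hm : ∀ i, (T.m i : ℚ) ≠ 0 := fun i => by exact_mod_cast (T.m_pos i).ne'
  have hmz : ∀ i, (T.m i : ℚ) * z i = y i := fun i => by
    simp only [hzdef]; exact mul_div_cancel₀ _ (hm i)
  have hR : ∑ i, ∑ j, (T.a i j : ℚ) * (T.m i * z i) * (T.m j * z j)
      = ((∑ i, ∑ j, T.a i j * y i * y j : ℤ) : ℚ) := by
    push_cast
    refine Finset.sum_congr rfl fun i _ => Finset.sum_congr rfl fun j _ => ?_
    rw [hmz, hmz]
  have hz : ∑ i, ∑ j, (T.a i j : ℚ) * (T.m i * z i) * (T.m j * z j) = 0 := by
    rw [hR, h0]; simp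
  have hconst := const_of_edge T z (ker_edge T z hz) i j
  simp only [hzdef] at hconst
  rw [div_eq_div_iff (hm i) (hm j)] at hconst
  exact_mod_cast hconst

/-- The form is negative on nonzero vectors with a zero coordinate. -/
theorem quad_neg_of_zero (y : Fin n → ℤ) (k : Fin n) (hk : y k = 0) (hy : y ≠ 0) :
    ∑ i, ∑ j, T.a i j * y i * y j < 0 := by
  rcases lt_or_eq_of_le (quad_nonpos T y) with h | h
  · exact h
  · exfalso
    apply hy
    funext i
    have := quad_eq_zero_proportional T y h i k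
    rw [hk, zero_mul] at this
    rcases mul_eq_zero.1 this with h1 | h1
    · exact h1
    · exact absurd h1 (T.m_pos k).ne'

/-- transport of sums along an embedding, for functions extended by zero -/
theorem sum_extend {k : ℕ} (v : Fin k ↪ Fin n) (c : Fin k → ℤ) (f : Fin n → ℤ → ℤ)
    (hf : ∀ i, f i 0 = 0) :
    ∑ i, f i (Function.extend v c 0 i) = ∑ j, f (v j) (c j) := by
  classical
  have h1 : ∑ i, f i (Function.extend v c 0 i)
      = ∑ i ∈ univ.map v, f i (Function.extend v c 0 i) := by
    symm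
    apply Finset.sum_subset (subset_univ _)
    intro i _ hi
    have : ¬ ∃ j, v j = i := by
      rintro ⟨j, rfl⟩
      exact hi (Finset.mem_map_of_mem v (mem_univ j))
    rw [Function.extend_apply' _ _ _ this]
    exact hf i
  rw [h1, Finset.sum_map]
  refine Finset.sum_congr rfl fun j _ => ?_
  rw [v.injective.extend_apply]

/-- Negative definiteness on proper sub-configurations. -/
theorem quad_neg_sub {k : ℕ} (v : Fin k ↪ Fin n) (hk : k < n) (c : Fin k → ℤ) (hc : c ≠ 0) :
    ∑ j, ∑ j', T.a (v j) (v j') * c j * c j' < 0 := by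
  classical
  set y : Fin n → ℤ := Function.extend v c 0 with hy
  have hex : ∃ i₀ : Fin n, ∀ j, v j ≠ i₀ := by
    by_contra hcon
    push Not at hcon
    have hsurj : Function.Surjective v := hcon
    have := Fintype.card_le_of_surjective v hsurj
    simp at this
    omega
  obtain ⟨i₀, hi₀⟩ := hex
  have hy0 : y i₀ = 0 := by
    rw [hy, Function.extend_apply' _ _ _ (by rintro ⟨j, hj⟩; exact hi₀ j hj)]
    rfl
  have hyne : y ≠ 0 := by
    intro h
    apply hc
    funext j
    have := congrFun h (v j)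
    rw [hy, v.injective.extend_apply] at this
    exact this
  have hmain := quad_neg_of_zero T y i₀ hy0 hyne
  have e1 : ∑ i, ∑ j, T.a i j * y i * y j = ∑ j, ∑ j', T.a (v j) (v j') * c j * c j' := by
    have : ∀ i, ∑ j, T.a i j * y i * y j = ∑ j', T.a i (v j') * y i * c j' := by
      intro i
      exact sum_extend v c (fun j t => T.a i j * y i * t) (fun j => by simp)
    simp_rw [this]
    rw [Finset.sum_comm]
    have h2 : ∀ j', ∑ i, T.a i (v j') * y i * c j' = ∑ j, T.a (v j) (v j') * c j * c j' := by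
      intro j'
      exact sum_extend v c (fun i t => T.a i (v j') * t * c j') (fun i => by simp)
    simp_rw [h2]
    rw [Finset.sum_comm]
  rw [e1] at hmain
  exact hmain

/-- The delta argument: there is no nonnegative nonzero vector supported on a proper
sub-configuration whose image under the sub-matrix is nonnegative on its support. -/
theorem delta_false {k : ℕ} (v : Fin k ↪ Fin n) (hk : k < n) (c : Fin k → ℤ)
    (hc0 : ∀ j, 0 ≤ c j) (hc : c ≠ 0)
    (h : ∀ j, c j ≠ 0 → 0 ≤ ∑ j', T.a (v j) (v j') * c j') : False := by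
  have hneg := quad_neg_sub T v hk c hc
  have hnn : 0 ≤ ∑ j, ∑ j', T.a (v j) (v j') * c j * c j' := by
    refine Finset.sum_nonneg fun j _ => ?_
    have : ∑ j', T.a (v j) (v j') * c j * c j' = c j * ∑ j', T.a (v j) (v j') * c j' := by
      rw [Finset.mul_sum]
      exact Finset.sum_congr rfl fun j' _ => by ring
    rw [this]
    by_cases hz : c j = 0
    · rw [hz, zero_mul]
    · exact mul_nonneg (hc0 j) (h j hz)
  linarith

/-- embedding of two distinct indices -/
def pairEmb {i j : Fin n} (h : i ≠ j) : Fin 2 ↪ Fin n :=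
  ⟨![i, j], by
    intro a b hab
    fin_cases a <;> fin_cases b <;> simp_all⟩

/-- Two adjacent `(-2)`-indices in a numerical type with more than two indices: the
five possibilities. -/
theorem pair_cases (hn : 2 < n) {i j : Fin n} (hi : T.IsMinusTwo i) (hj : T.IsMinusTwo j)
    (hij : 0 < T.a i j) :
    (T.w j = T.w i ∧ T.a i j = T.w i) ∨ (T.w j = 2 * T.w i ∧ T.a i j = 2 * T.w i) ∨
      (T.w i = 2 * T.w j ∧ T.a i j = 2 * T.w j) ∨ (T.w j = 3 * T.w i ∧ T.a i j = 3 * T.w i) ∨
      (T.w i = 3 * T.w j ∧ T.a i j = 3 * T.w j) := by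
  have hne : i ≠ j := ne_of_pos T hij
  obtain ⟨p, hp⟩ := T.w_dvd i j
  obtain ⟨q, hq⟩ := T.w_dvd j i
  rw [← a_symm T i j] at hq
  have hwi := T.w_pos i
  have hwj := T.w_pos j
  have hp1 : 1 ≤ p := by
    by_contra hcon
    have : p ≤ 0 := by omega
    have := mul_nonpos_of_nonneg_of_nonpos hwi.le this
    linarith
  have hq1 : 1 ≤ q := by
    by_contra hcon
    have : q ≤ 0 := by omega
    have := mul_nonpos_of_nonneg_of_nonpos hwj.le this
    linarith
  have hneg := quad_neg_sub T (pairEmb hne) hn ![p, 2] (by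
    intro h
    have := congrFun h 1
    simp at this)
  simp only [pairEmb, Fin.sum_univ_two, Function.Embedding.coeFn_mk, Matrix.cons_val_zero,
    Matrix.cons_val_one] at hneg
  rw [hi.2, hj.2, ← a_symm T i j] at hneg
  have hpq : p * q ≤ 3 := by
    by_contra hcon
    have h4 : 4 ≤ p * q := by omega
    have e : -2 * T.w i * p * p + T.a i j * p * 2 + (T.a i j * 2 * p + -2 * T.w j * 2 * 2)
        = 2 * T.w j * (p * q - 4) := by
      have h1 : T.w i * p * p = T.a i j * p := by rw [hp]
      have h2 : T.a i j * p = T.w j * (p * q) := by rw [hq]; ring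
      linear_combination (-2 : ℤ) * h1 + (2 : ℤ) * h2
    rw [e] at hneg
    have : 0 ≤ 2 * T.w j * (p * q - 4) := by
      apply mul_nonneg (by linarith)
      linarith
    linarith
  have hp3 : p ≤ 3 := by nlinarith
  have hq3 : q ≤ 3 := by nlinarith
  interval_cases p <;> interval_cases q <;> omega

/-- Row inequality at a `(-2)`-index. -/
theorem row_ineq {j : Fin n} (hj : T.IsMinusTwo j) (S : Finset (Fin n)) (hS : j ∉ S) :
    ∑ l ∈ S, T.a j l * T.m l ≤ 2 * T.w j * T.m j := by
  have h := diag_mul T j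
  rw [hj.2] at h
  have hsub : S ⊆ univ.erase j := fun l hl =>
    Finset.mem_erase.2 ⟨fun e => hS (e ▸ hl), mem_univ l⟩
  have := Finset.sum_le_sum_of_subset_of_nonneg hsub (f := fun l => T.a j l * T.m l)
    (fun l hl _ => offdiag_term_nonneg T j l (Finset.ne_of_mem_erase hl))
  linarith

/-- The delta argument with a list of known neighbours for each vertex: unknown
off-diagonal entries are nonnegative and can be dropped. -/
theorem delta_false_nb {k : ℕ} (v : Fin k ↪ Fin n) (hk : k < n) (c : Fin k → ℤ)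
    (hc0 : ∀ j, 0 ≤ c j) (hc : c ≠ 0) (nb : Fin k → Finset (Fin k)) (hnb : ∀ j, j ∉ nb j)
    (h : ∀ j, c j ≠ 0 → 0 ≤ T.a (v j) (v j) * c j + ∑ j' ∈ nb j, T.a (v j) (v j') * c j') :
    False := by
  classical
  refine delta_false T v hk c hc0 hc fun j hj => ?_
  have h1 := h j hj
  rw [← Finset.add_sum_erase univ _ (mem_univ j)]
  have hsub : nb j ⊆ univ.erase j := fun l hl =>
    Finset.mem_erase.2 ⟨fun e => hnb j (e ▸ hl), mem_univ l⟩
  have := Finset.sum_le_sum_of_subset_of_nonneg hsub (f := fun j' => T.a (v j) (v j') * c j')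
    (fun l hl _ => mul_nonneg
      (T.offDiag_nonneg _ _ (v.injective.ne (Finset.ne_of_mem_erase hl).symm)) (hc0 l))
  linarith

end Groth.Agent.Lib.Helper11
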