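import Groth.Agent.Lib.Helper11.NumType
import Mathlib.Algebra.BigOperators.Field

/-!
Topological genus bound for minimal numerical types (helper11).
-/

set_option autoImplicit false
open Finset

namespace Groth.Agent.Lib.Helper11

open Models Models.NumericalType

variable {n : ℕ} (T : Models.NumericalType n)

/-- `k i = -a i i / w i` (exact division). -/
def kk (i : Fin n) : ℤ := -(T.a i i / T.w i)

theorem w_mul_kk (i : Fin n) : T.w i * kk T i = - T.a i i := by
  unfold kk; rw [mul_neg, Int.mul_ediv_cancel' (T.w_dvd i i)]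

/-- rational edge function -/
noncomputable def ff (i j : Fin n) : ℚ :=
  if i = j then 0 else (T.a i j : ℚ) * T.m j / (T.w i * T.m i)

theorem ff_self (i : Fin n) : ff T i i = 0 := by simp [ff]

theorem ff_nonneg (i j : Fin n) : 0 ≤ ff T i j := by
  unfold ff
  split_ifs with h
  · exact le_refl _
  · have h1 : (0 : ℚ) ≤ T.a i j := by exact_mod_cast T.offDiag_nonneg i j h
    have h2 : (0 : ℚ) < T.m i := by exact_mod_cast T.m_pos i
    have h3 : (0 : ℚ) < T.m j := by exact_mod_cast T.m_pos j
    have h4 : (0 : ℚ) < T.w i := by exact_mod_cast T.w_pos i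
    positivity

theorem ff_ge (i j : Fin n) (ha : 0 < T.a i j) : (T.m j : ℚ) / T.m i ≤ ff T i j := by
  have hne : i ≠ j := ne_of_pos T ha
  unfold ff
  rw [if_neg hne]
  have h2 : (0 : ℚ) < T.m i := by exact_mod_cast T.m_pos i
  have h3 : (0 : ℚ) < T.m j := by exact_mod_cast T.m_pos j
  have h4 : (0 : ℚ) < T.w i := by exact_mod_cast T.w_pos i
  have h5 : (T.w i : ℚ) ≤ T.a i j := by exact_mod_cast w_le_of_pos T ha
  rw [div_le_div_iff₀ h2 (mul_pos h4 h2)]
  nlinarith [mul_pos h3 h2, mul_pos (mul_pos h3 h2) h4]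

theorem ff_add_ge (i j : Fin n) (ha : 0 < T.a i j) : 2 ≤ ff T i j + ff T j i := by
  have ha' : 0 < T.a j i := by rw [a_symm T j i]; exact ha
  have h1 := ff_ge T i j ha
  have h2 := ff_ge T j i ha'
  have hp : (0 : ℚ) < T.m i := by exact_mod_cast T.m_pos i
  have hq : (0 : ℚ) < T.m j := by exact_mod_cast T.m_pos j
  have h3 : (2 : ℚ) ≤ (T.m j : ℚ) / T.m i + (T.m i : ℚ) / T.m j := by
    rw [div_add_div _ _ hp.ne' hq.ne', le_div_iff₀ (mul_pos hp hq)]
    nlinarith [sq_nonneg ((T.m i : ℚ) - T.m j)]
  linarith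

theorem kk_eq_sum (i : Fin n) : (kk T i : ℚ) = ∑ j, ff T i j := by
  have h := diag_mul T i
  have hw : (T.w i : ℚ) ≠ 0 := by exact_mod_cast (T.w_pos i).ne'
  have hm : (T.m i : ℚ) ≠ 0 := by exact_mod_cast (T.m_pos i).ne'
  have h1 : (T.w i : ℚ) * (kk T i : ℚ) = - (T.a i i : ℚ) := by exact_mod_cast w_mul_kk T i
  have h2 : ∑ j, ff T i j = ∑ j ∈ univ.erase i, (T.a i j : ℚ) * T.m j / (T.w i * T.m i) := by
    rw [← Finset.add_sum_erase univ _ (mem_univ i), ff_self, zero_add]
    refine Finset.sum_congr rfl fun j hj => ?_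
    unfold ff
    rw [if_neg (Finset.ne_of_mem_erase hj).symm]
  have h3 : (T.a i i : ℚ) * T.m i = - ∑ j ∈ univ.erase i, (T.a i j : ℚ) * T.m j := by
    exact_mod_cast h
  rw [h2, ← Finset.sum_div, eq_div_iff (mul_ne_zero hw hm)]
  linear_combination (T.m i : ℚ) * h1 - h3

theorem two_mul_edgeCount_le : 2 * (T.edgeCount : ℤ) ≤ ∑ i, kk T i := by
  have hcast : ((2 * (T.edgeCount : ℤ) : ℤ) : ℚ) ≤ ((∑ i, kk T i : ℤ) : ℚ) := by
    push_cast
    simp_rw [kk_eq_sum]
    -- rewrite the edge count as a double sum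
    have he : (T.edgeCount : ℚ) = ∑ i, ∑ j, if (i < j ∧ 0 < T.a i j) then (1 : ℚ) else 0 := by
      unfold Models.NumericalType.edgeCount
      rw [Finset.card_filter]
      push_cast
      rw [Fintype.sum_prod_type]
    -- split the double sum of ff
    have hsplit : ∑ i, ∑ j, ff T i j
        = ∑ i, ∑ j, if i < j then (ff T i j + ff T j i) else 0 := by
      have h1 : ∀ i j, ff T i j = (if i < j then ff T i j else 0) + (if j < i then ff T i j else 0) := by
        intro i j
        rcases lt_trichotomy i j with h | h | h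
        · simp [h, not_lt_of_gt h]
        · subst h; simp [ff_self]
        · simp [h, not_lt_of_gt h]
      have h2 : ∑ i, ∑ j, (if j < i then ff T i j else 0)
          = ∑ i, ∑ j, (if i < j then ff T j i else 0) := by
        rw [Finset.sum_comm]
      calc ∑ i, ∑ j, ff T i j
          = ∑ i, ∑ j, ((if i < j then ff T i j else 0) + (if j < i then ff T i j else 0)) := by
            refine Finset.sum_congr rfl fun i _ => Finset.sum_congr rfl fun j _ => h1 i j
        _ = ∑ i, ∑ j, (if i < j then ff T i j else 0)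
              + ∑ i, ∑ j, (if j < i then ff T i j else 0) := by
            simp_rw [Finset.sum_add_distrib]
        _ = ∑ i, ∑ j, (if i < j then ff T i j else 0)
              + ∑ i, ∑ j, (if i < j then ff T j i else 0) := by rw [h2]
        _ = ∑ i, ∑ j, if i < j then (ff T i j + ff T j i) else 0 := by
            simp_rw [← Finset.sum_add_distrib]
            refine Finset.sum_congr rfl fun i _ => Finset.sum_congr rfl fun j _ => ?_
            split_ifs <;> simp
    rw [he, hsplit, Finset.mul_sum]
    refine Finset.sum_le_sum fun i _ => ?_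
    rw [Finset.mul_sum]
    refine Finset.sum_le_sum fun j _ => ?_
    by_cases hij : i < j
    · by_cases ha : 0 < T.a i j
      · rw [if_pos ⟨hij, ha⟩, if_pos hij, mul_one]
        exact ff_add_ge T i j ha
      · rw [if_neg (fun h => ha h.2), if_pos hij, mul_zero]
        exact add_nonneg (ff_nonneg T i j) (ff_nonneg T j i)
    · rw [if_neg (fun h => hij h.1), if_neg hij, mul_zero]
  exact_mod_cast hcast

/-- per-vertex inequality -/
theorem vertex_ineq (hmin : T.IsMinimal) (hn : 1 < n) (i : Fin n) :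
    kk T i ≤ T.m i * (2 * T.w i * (T.g i - 1) - T.a i i) + 2 := by
  have hk := w_mul_kk T i
  have hneg := diag_neg T hn i
  have hw := T.w_pos i
  have hm := T.m_pos i
  have hg := T.g_nonneg i
  have hk_pos : 0 < kk T i := by
    by_contra h
    rw [not_lt] at h
    nlinarith
  have ha : T.a i i = - (T.w i * kk T i) := by linarith
  rcases eq_or_lt_of_le hg with h0 | hpos
  · have hk1 : kk T i ≠ 1 := by
      intro h
      apply hmin i
      refine ⟨h0.symm, ?_⟩
      rw [ha, h]; ring
    have hk2 : 2 ≤ kk T i := by omega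
    rw [← h0, ha]
    have h1 : 1 ≤ T.m i * T.w i := by nlinarith
    nlinarith
  · have hg1 : 1 ≤ T.g i := hpos
    rw [ha]
    have h1 : 1 ≤ T.m i * T.w i := by nlinarith
    have h2 : 0 ≤ T.m i * T.w i * (T.g i - 1) := by
      have : 0 ≤ T.g i - 1 := by linarith
      positivity
    nlinarith

theorem topGenus_le_genus_of_isMinimal (hmin : T.IsMinimal) (hn : 1 < n) :
    T.topGenus ≤ T.genus := by
  have h1 := two_mul_genus_ge T
  rw [sum_local_eq] at h1
  have h2 := two_mul_edgeCount_le T
  have h3 : ∑ i, kk T i ≤ ∑ i, (T.m i * (2 * T.w i * (T.g i - 1) - T.a i i) + 2) :=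
    Finset.sum_le_sum fun i _ => vertex_ineq T hmin hn i
  rw [Finset.sum_add_distrib] at h3
  simp only [Finset.sum_const, Finset.card_univ, Fintype.card_fin, nsmul_eq_mul] at h3
  unfold Models.NumericalType.topGenus
  linarith

end Groth.Agent.Lib.Helper11
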