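import Mathlib

/-!
# Open subschemes as objects of the small étale site, pointwise covering criteria

(helper11) Tools for working in `X.Etale`:
* `mem_et_iff`, `mem_zar_iff`: pointwise criteria for covering sieves of the small étale topology and
  of the Zariski topology on `X.Etale`;
* `opn U V`, `opnι`, `opnLift`: open subschemes of objects of `X.Etale` as objects of `X.Etale`.
-/

set_option autoImplicit false
set_option linter.style.haveILetI false
set_option linter.unusedSimpArgs false
universe u w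
open CategoryTheory CategoryTheory.Limits AlgebraicGeometry Opposite

namespace Groth.Agent.Lib.Helper11.SmallEtOpens

variable {X : Scheme.{u}}

/-- the Zariski topology on the category of étale `X`-schemes -/
noncomputable abbrev zar (X : Scheme.{u}) : GrothendieckTopology X.Etale :=
  X.smallGrothendieckTopology (P := @IsOpenImmersion)

lemma openImm_le_etale : (@IsOpenImmersion : MorphismProperty Scheme.{u}) ≤ @Etale :=
  fun _ _ f (_ : IsOpenImmersion f) => (inferInstance : Etale f)

set_option backward.isDefEq.respectTransparency.types false in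
theorem mem_et_iff {U : X.Etale} (R : Sieve U) :
    R ∈ X.smallEtaleTopology U ↔
      ∀ x : U.left, ∃ (Y : X.Etale) (f : Y ⟶ U) (y : Y.left), R f ∧ f.left y = x := by
  have eS : X.smallEtaleTopology =
      (X.smallPretopology (P := @Etale) (Q := @Etale)).toGrothendieck :=
    Scheme.smallGrothendieckTopology_eq_toGrothendieck_smallPretopology X le_rfl
  rw [eS]
  have key := Scheme.mem_toGrothendieck_smallPretopology (P := @Etale) (Q := @Etale) U R
  constructor
  · intro h x
    obtain ⟨Y, f, y, h1, _, h3⟩ := key.1 h x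
    exact ⟨Y, f, y, h1, h3⟩
  · intro h
    refine key.2 (fun x => ?_)
    obtain ⟨Y, f, y, h1, h3⟩ := h x
    exact ⟨Y, f, y, h1, (inferInstance : Etale f.left), h3⟩

set_option backward.isDefEq.respectTransparency.types false in
theorem mem_zar_iff {U : X.Etale} (R : Sieve U) :
    R ∈ zar X U ↔
      ∀ x : U.left, ∃ (Y : X.Etale) (f : Y ⟶ U) (y : Y.left),
        R f ∧ IsOpenImmersion f.left ∧ f.left y = x := by
  have eS : zar X =
      (X.smallPretopology (P := @IsOpenImmersion) (Q := @Etale)).toGrothendieck :=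
    Scheme.smallGrothendieckTopology_eq_toGrothendieck_smallPretopology X openImm_le_etale
  rw [eS]
  exact Scheme.mem_toGrothendieck_smallPretopology (P := @IsOpenImmersion) (Q := @Etale) U R

theorem zar_le_et : zar X ≤ X.smallEtaleTopology := by
  intro U R hR
  rw [mem_et_iff]
  rw [mem_zar_iff] at hR
  intro x
  obtain ⟨Y, f, y, h1, _, h3⟩ := hR x
  exact ⟨Y, f, y, h1, h3⟩

/-! ### morphisms in `X.Etale` -/

lemma hom_ext' {A B : X.Etale} {f g : A ⟶ B} (h : f.left = g.left) : f = g := by
  apply (Scheme.Etale.forget X).map_injective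
  exact Over.OverMorphism.ext h

lemma comp_left' {A B C : X.Etale} (f : A ⟶ B) (g : B ⟶ C) : (f ≫ g).left = f.left ≫ g.left := rfl

/-- an open subscheme of an étale `X`-scheme, as an object of `X.Etale` -/
noncomputable def opn (U : X.Etale) (V : U.left.Opens) : X.Etale :=
  Scheme.Etale.mk (V.ι ≫ U.hom)

/-- the inclusion of an open subscheme -/
noncomputable def opnι (U : X.Etale) (V : U.left.Opens) : opn U V ⟶ U :=
  MorphismProperty.Over.homMk V.ι rfl trivial

lemma opnι_left (U : X.Etale) (V : U.left.Opens) : (opnι U V).left = V.ι := rfl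

lemma isOpenImmersion_opnι (U : X.Etale) (V : U.left.Opens) : IsOpenImmersion (opnι U V).left :=
  inferInstanceAs (IsOpenImmersion V.ι)

/-- lifting a morphism whose image lands in an open (scheme level) -/
noncomputable def opnLiftLeft {Z U : X.Etale} (g : Z ⟶ U) (V : U.left.Opens)
    (h : Set.range g.left ⊆ (V : Set U.left)) : Z.left ⟶ V.toScheme :=
  IsOpenImmersion.lift V.ι g.left ((Scheme.Opens.range_ι V).symm ▸ h)

lemma opnLiftLeft_ι {Z U : X.Etale} (g : Z ⟶ U) (V : U.left.Opens)
    (h : Set.range g.left ⊆ (V : Set U.left)) : opnLiftLeft g V h ≫ V.ι = g.left :=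
  IsOpenImmersion.lift_fac _ _ _

/-- lifting a morphism whose image lands in an open -/
noncomputable def opnLift {Z U : X.Etale} (g : Z ⟶ U) (V : U.left.Opens)
    (h : Set.range g.left ⊆ (V : Set U.left)) : Z ⟶ opn U V :=
  MorphismProperty.Over.homMk (opnLiftLeft g V h)
    (by
      change opnLiftLeft g V h ≫ V.ι ≫ U.hom = Z.hom
      rw [← Category.assoc, opnLiftLeft_ι]
      exact Over.w g.hom) trivial

lemma opnLift_left {Z U : X.Etale} (g : Z ⟶ U) (V : U.left.Opens)
    (h : Set.range g.left ⊆ (V : Set U.left)) : (opnLift g V h).left = opnLiftLeft g V h := rfl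

lemma opnLift_ι {Z U : X.Etale} (g : Z ⟶ U) (V : U.left.Opens)
    (h : Set.range g.left ⊆ (V : Set U.left)) : opnLift g V h ≫ opnι U V = g := by
  apply hom_ext'
  rw [comp_left', opnLift_left, opnι_left]
  exact opnLiftLeft_ι g V h

lemma opnι_cancel {Z U : X.Etale} {V : U.left.Opens} (a b : Z ⟶ opn U V)
    (h : a ≫ opnι U V = b ≫ opnι U V) : a = b := by
  apply hom_ext'
  have h1 := congrArg (fun t => t.left) h
  change a.left ≫ V.ι = b.left ≫ V.ι at h1
  exact (cancel_mono V.ι).mp h1

lemma range_opnι (U : X.Etale) (V : U.left.Opens) :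
    Set.range (opnι U V).left = (V : Set U.left) := by
  rw [opnι_left]
  exact Scheme.Opens.range_ι V

/-- the affine Zariski 1-hypercover of an object of `X.Etale` -/
noncomputable def affHC (U : X.Etale) : (zar X).OneHypercover.{u} U where
  I₀ := U.left.affineOpens
  X i := opn U i.1
  f i := opnι U i.1
  I₁ i j := {W : U.left.affineOpens // W.1 ≤ i.1 ⊓ j.1}
  Y _ _ k := opn U k.1.1
  p₁ i _ k := opnLift (opnι U k.1.1) i.1 (by
    rw [range_opnι]; exact fun _ hx => (k.2 hx).1)
  p₂ _ j k := opnLift (opnι U k.1.1) j.1 (by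
    rw [range_opnι]; exact fun _ hx => (k.2 hx).2)
  w i j k := by rw [opnLift_ι, opnLift_ι]
  mem₀ := by
    rw [mem_zar_iff]
    intro x
    obtain ⟨_, ⟨V, hV, rfl⟩, hxV, -⟩ :=
      U.left.isBasis_affineOpens.exists_subset_of_mem_open (Set.mem_univ x) isOpen_univ
    exact ⟨opn U V, opnι U V, ⟨x, hxV⟩, Sieve.ofArrows_mk _ _ (⟨V, hV⟩ : U.left.affineOpens),
      isOpenImmersion_opnι U V, rfl⟩
  mem₁ i₁ i₂ W p₁ p₂ hw := by
    rw [mem_zar_iff]
    intro z
    set q : W ⟶ U := p₁ ≫ opnι U i₁.1 with hq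
    have hq2 : q = p₂ ≫ opnι U i₂.1 := hw
    have hu1 : q.left z ∈ i₁.1 := by
      have : q.left z ∈ Set.range (opnι U i₁.1).left := ⟨p₁.left z, rfl⟩
      rwa [range_opnι] at this
    have hu2 : q.left z ∈ i₂.1 := by
      rw [hq2]
      have : (p₂ ≫ opnι U i₂.1).left z ∈ Set.range (opnι U i₂.1).left := ⟨p₂.left z, rfl⟩
      rwa [range_opnι] at this
    obtain ⟨_, ⟨A, hA, rfl⟩, hxA, hAle⟩ :=
      U.left.isBasis_affineOpens.exists_subset_of_mem_open
        (show q.left z ∈ ((i₁.1 ⊓ i₂.1 : U.left.Opens) : Set U.left) from ⟨hu1, hu2⟩)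
        (i₁.1 ⊓ i₂.1).2
    let N : W.left.Opens := q.left ⁻¹ᵁ A
    have hzN : z ∈ N := hxA
    have hr : Set.range (opnι W N ≫ q).left ⊆ (A : Set U.left) := by
      rintro _ ⟨t, rfl⟩
      exact t.2
    refine ⟨opn W N, opnι W N, ⟨z, hzN⟩, ?_, isOpenImmersion_opnι W N, rfl⟩
    refine ⟨⟨⟨A, hA⟩, hAle⟩, opnLift (opnι W N ≫ q) A hr, ?_, ?_⟩
    · apply opnι_cancel
      rw [Category.assoc, Category.assoc, opnLift_ι, opnLift_ι]
    · apply opnι_cancel
      rw [Category.assoc, Category.assoc, opnLift_ι, opnLift_ι, ← hq2]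

lemma isAffine_affHC_X (U : X.Etale) (i : (affHC U).I₀) : IsAffine ((affHC U).X i).left :=
  i.2

lemma isAffine_affHC_Y (U : X.Etale) {i j : (affHC U).I₀} (k : (affHC U).I₁ i j) :
    IsAffine ((affHC U).Y k).left :=
  k.1.2

end Groth.Agent.Lib.Helper11.SmallEtOpens
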