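import Mathlib
import Groth.Agent.S1381
import Groth.Agent.Lib.Helper24.LfpOfComp

/-!
# Properties of a morphism over a thickening detected on the base change (helper11)

Setting of Stacks 06AG-type lemmas: `S ⟶ S'` a thickening, `X' ⟶ Y'` over `S'` with `X'` flat and
locally of finite presentation over `S'`, `Y'` locally of finite type over `S'`, and `X ⟶ Y` the
base change.  On top of helper31's flatness statement (S1381) we get smooth / étale / open immersion /
isomorphism.
-/

set_option autoImplicit false
set_option linter.style.haveILetI false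
set_option linter.unusedSectionVars false
universe u
open CategoryTheory CategoryTheory.Limits AlgebraicGeometry

namespace Groth.Agent.Lib.Helper11.ThickBC

variable {X X' Y Y' S S' : Scheme.{u}} (iX : X ⟶ X') (iY : Y ⟶ Y') (iS : S ⟶ S')
  (f : X ⟶ Y) (f' : X' ⟶ Y') (g : Y ⟶ S) (g' : Y' ⟶ S')

/-- the fibre of `f'` over a point is a base change of `f` when `Y ⟶ Y'` is a surjective closed
immersion -/
theorem exists_isPullback_fiber (hpb : IsPullback iX f f' iY) [IsClosedImmersion iY] [Surjective iY]
    (y' : Y') :
    ∃ (k : f'.fiber y' ⟶ X) (t : Spec (Y'.residueField y') ⟶ Y),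
      IsPullback k (f'.fiberToSpecResidueField y') f t := by
  haveI : IsIso (pullback.snd iY (Y'.fromSpecResidueField y')) :=
    isIso_of_isClosedImmersion_of_surjective _
  let t : Spec (Y'.residueField y') ⟶ Y :=
    inv (pullback.snd iY (Y'.fromSpecResidueField y')) ≫
      pullback.fst iY (Y'.fromSpecResidueField y')
  have ht : t ≫ iY = Y'.fromSpecResidueField y' := by
    simp only [t, Category.assoc, pullback.condition]
    simp
  let k : f'.fiber y' ⟶ X := hpb.lift (f'.fiberι y') (f'.fiberToSpecResidueField y' ≫ t)
    (by rw [Category.assoc, ht]; exact f'.fiber_fac y')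
  have hbig : IsPullback (f'.fiberι y') (f'.fiberToSpecResidueField y') f'
      (Y'.fromSpecResidueField y') := IsPullback.of_hasPullback _ _
  exact ⟨k, t, IsPullback.of_right (by rw [hpb.lift_fst, ht]; exact hbig) (hpb.lift_snd _ _ _) hpb⟩

theorem smooth_of_isPullback (hpb : IsPullback iX f f' iY) [IsClosedImmersion iY] [Surjective iY]
    [Flat f'] [LocallyOfFinitePresentation f'] [Smooth f] : Smooth f' := by
  refine Smooth.of_smooth_fiberToSpecResidueField f' (fun y' => ?_)
  obtain ⟨k, t, h⟩ := exists_isPullback_fiber iX iY f f' hpb y'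
  exact MorphismProperty.of_isPullback (P := @Smooth) h inferInstance

/-- the map between the self fibre products -/
noncomputable abbrev iP (w : iX ≫ f' = f ≫ iY) : pullback f f ⟶ pullback f' f' :=
  pullback.map f f f' f' iX iX iY w.symm w.symm

theorem isPullback_iP (hpb : IsPullback iX f f' iY) (hcX : IsPullback iX (f ≫ g) (f' ≫ g') iS)
    (w : iX ≫ f' = f ≫ iY) :
    IsPullback (iP iX iY f f' w) (pullback.snd f f ≫ f ≫ g) (pullback.snd f' f' ≫ f' ≫ g') iS := by
  have hP : IsPullback (pullback.fst f f) (pullback.snd f f) f f := IsPullback.of_hasPullback f f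
  have hP' : IsPullback (pullback.fst f' f') (pullback.snd f' f') f' f' :=
    IsPullback.of_hasPullback f' f'
  have e1 : iP iX iY f f' w ≫ pullback.fst f' f' = pullback.fst f f ≫ iX :=
    pullback.lift_fst _ _ _
  have e2 : iP iX iY f f' w ≫ pullback.snd f' f' = pullback.snd f f ≫ iX :=
    pullback.lift_snd _ _ _
  have big : IsPullback (iP iX iY f f' w ≫ pullback.fst f' f') (pullback.snd f f) f'
      (iX ≫ f') := by
    rw [e1, w]
    exact hP.paste_horiz hpb
  have left : IsPullback (iP iX iY f f' w) (pullback.snd f f) (pullback.snd f' f') iX :=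
    IsPullback.of_right big e2 hP'
  exact left.paste_vert hcX

theorem diag_comm (w : iX ≫ f' = f ≫ iY) :
    iX ≫ pullback.diagonal f' = pullback.diagonal f ≫ iP iX iY f f' w := by
  have e1 : iP iX iY f f' w ≫ pullback.fst f' f' = pullback.fst f f ≫ iX :=
    pullback.lift_fst _ _ _
  have e2 : iP iX iY f f' w ≫ pullback.snd f' f' = pullback.snd f f ≫ iX :=
    pullback.lift_snd _ _ _
  apply pullback.hom_ext
  · rw [Category.assoc, Category.assoc, e1, pullback.diagonal_fst, Category.comp_id,
      ← Category.assoc, pullback.diagonal_fst, Category.id_comp]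
  · rw [Category.assoc, Category.assoc, e2, pullback.diagonal_snd, Category.comp_id,
      ← Category.assoc, pullback.diagonal_snd, Category.id_comp]

section Main

variable (hS : MoreMor.IsThickening iS) (hcX : IsPullback iX (f ≫ g) (f' ≫ g') iS)
  (hcY : IsPullback iY g g' iS) (w : iX ≫ f' = f ≫ iY)

include hS hcX hcY w

theorem isPullback_left : IsPullback iX f f' iY := IsPullback.of_bot hcX w hcY

theorem isClosedImmersion_iY : IsClosedImmersion iY :=
  MorphismProperty.of_isPullback (P := @IsClosedImmersion) hcY.flip hS.1

theorem surjective_iY : Surjective iY :=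
  MorphismProperty.of_isPullback (P := @Surjective) hcY.flip hS.2

variable [Flat (f' ≫ g')] [LocallyOfFinitePresentation (f' ≫ g')] [LocallyOfFiniteType g']

theorem lfp : LocallyOfFinitePresentation f' :=
  Groth.Agent.Lib.Helper24.locallyOfFinitePresentation_of_comp f' g'

theorem flat_iff : Flat f ↔ Flat f' :=
  Groth.Agent.S1381.result iX iY iS f f' g g' hS hcX hcY w

theorem smooth_iff : Smooth f ↔ Smooth f' := by
  have hpb := isPullback_left iX iY iS f f' g g' hS hcX hcY w
  constructor
  · intro hf
    haveI := isClosedImmersion_iY iX iY iS f f' g g' hS hcX hcY w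
    haveI := surjective_iY iX iY iS f f' g g' hS hcX hcY w
    haveI := lfp iX iY iS f f' g g' hS hcX hcY w
    haveI : Flat f' := (flat_iff iX iY iS f f' g g' hS hcX hcY w).1 inferInstance
    exact smooth_of_isPullback iX iY f f' hpb
  · intro hf'
    exact MorphismProperty.of_isPullback (P := @Smooth) hpb hf'

/-- the diagonal of `f'` is flat as soon as the diagonal of `f` is -/
theorem flat_diagonal (h : Flat (pullback.diagonal f)) : Flat (pullback.diagonal f') := by
  have hpb := isPullback_left iX iY iS f f' g g' hS hcX hcY w
  haveI := lfp iX iY iS f f' g g' hS hcX hcY w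
  have hcP := isPullback_iP iX iY iS f f' g g' hpb hcX w
  have e : pullback.diagonal f ≫ pullback.snd f f ≫ f ≫ g = f ≫ g := by
    rw [← Category.assoc, pullback.diagonal_snd, Category.id_comp]
  have e' : pullback.diagonal f' ≫ pullback.snd f' f' ≫ f' ≫ g' = f' ≫ g' := by
    rw [← Category.assoc, pullback.diagonal_snd, Category.id_comp]
  have hcX' : IsPullback iX (pullback.diagonal f ≫ pullback.snd f f ≫ f ≫ g)
      (pullback.diagonal f' ≫ pullback.snd f' f' ≫ f' ≫ g') iS := by
    rw [e, e']; exact hcX
  haveI : Flat (pullback.diagonal f' ≫ pullback.snd f' f' ≫ f' ≫ g') := by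
    rw [e']; infer_instance
  haveI : LocallyOfFinitePresentation (pullback.diagonal f' ≫ pullback.snd f' f' ≫ f' ≫ g') := by
    rw [e']; infer_instance
  haveI : LocallyOfFiniteType (pullback.snd f' f' ≫ f' ≫ g') := inferInstance
  exact (Groth.Agent.S1381.result iX (iP iX iY f f' w) iS (pullback.diagonal f)
    (pullback.diagonal f') (pullback.snd f f ≫ f ≫ g) (pullback.snd f' f' ≫ f' ≫ g') hS hcX' hcP
    (diag_comm iX iY f f' w)).1 h

theorem isOpenImmersion_diagonal (h : Flat (pullback.diagonal f)) :
    IsOpenImmersion (pullback.diagonal f') := by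
  haveI := lfp iX iY iS f f' g g' hS hcX hcY w
  haveI : Flat (pullback.diagonal f') := flat_diagonal iX iY iS f f' g g' hS hcX hcY w h
  haveI : LocallyOfFinitePresentation (pullback.diagonal f') := by
    haveI : LocallyOfFinitePresentation (pullback.diagonal f' ≫ pullback.snd f' f') := by
      rw [pullback.diagonal_snd]; infer_instance
    exact Groth.Agent.Lib.Helper24.locallyOfFinitePresentation_of_comp (pullback.diagonal f')
      (pullback.snd f' f')
  exact IsOpenImmersion.of_flat_of_mono _

theorem etale_iff : Etale f ↔ Etale f' := by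
  have hpb := isPullback_left iX iY iS f f' g g' hS hcX hcY w
  constructor
  · intro hf
    haveI := lfp iX iY iS f f' g g' hS hcX hcY w
    haveI : Flat f' := (flat_iff iX iY iS f f' g g' hS hcX hcY w).1 inferInstance
    haveI : IsOpenImmersion (pullback.diagonal f') :=
      isOpenImmersion_diagonal iX iY iS f f' g g' hS hcX hcY w inferInstance
    haveI : FormallyUnramified f' := inferInstance
    exact Etale.of_formallyUnramified_of_flat f'
  · intro hf'
    exact MorphismProperty.of_isPullback (P := @Etale) hpb hf'

theorem isOpenImmersion_iff : IsOpenImmersion f ↔ IsOpenImmersion f' := by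
  have hpb := isPullback_left iX iY iS f f' g g' hS hcX hcY w
  constructor
  · intro hf
    haveI := lfp iX iY iS f f' g g' hS hcX hcY w
    haveI : Flat f' := (flat_iff iX iY iS f f' g g' hS hcX hcY w).1 inferInstance
    haveI : IsOpenImmersion (pullback.diagonal f') :=
      isOpenImmersion_diagonal iX iY iS f f' g g' hS hcX hcY w inferInstance
    -- the diagonal of `f'` is surjective
    have hcP := isPullback_iP iX iY iS f f' g g' hpb hcX w
    haveI : Surjective (iP iX iY f f' w) :=
      MorphismProperty.of_isPullback (P := @Surjective) hcP.flip hS.2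
    haveI : Surjective (pullback.diagonal f') := ⟨fun p' => by
      obtain ⟨p, rfl⟩ := (iP iX iY f f' w).surjective p'
      obtain ⟨x, rfl⟩ := (pullback.diagonal f).surjective p
      refine ⟨iX x, ?_⟩
      have e := diag_comm iX iY f f' w
      have e3 := congrArg (fun φ => φ.base x) e
      exact e3⟩
    haveI : IsIso (pullback.diagonal f') :=
      (isIso_iff_isOpenImmersion_and_surjective _).2 ⟨inferInstance, inferInstance⟩
    haveI : Mono f' := (pullback.isIso_diagonal_iff f').1 inferInstance
    exact IsOpenImmersion.of_flat_of_mono f'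
  · intro hf'
    exact MorphismProperty.of_isPullback (P := @IsOpenImmersion) hpb hf'

theorem isIso_iff : IsIso f ↔ IsIso f' := by
  have hpb := isPullback_left iX iY iS f f' g g' hS hcX hcY w
  constructor
  · intro hf
    haveI : IsOpenImmersion f' :=
      (isOpenImmersion_iff iX iY iS f f' g g' hS hcX hcY w).1 inferInstance
    haveI := surjective_iY iX iY iS f f' g g' hS hcX hcY w
    haveI : Surjective f' := ⟨fun y' => by
      obtain ⟨y, rfl⟩ := iY.surjective y'
      obtain ⟨x, rfl⟩ := f.surjective y
      refine ⟨iX x, ?_⟩
      have e3 := congrArg (fun φ => φ.base x) w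
      exact e3⟩
    exact (isIso_iff_isOpenImmersion_and_surjective _).2 ⟨inferInstance, inferInstance⟩
  · intro hf'
    exact MorphismProperty.of_isPullback (P := MorphismProperty.isomorphisms Scheme.{u}) hpb hf'

end Main

end Groth.Agent.Lib.Helper11.ThickBC
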